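import Cfsg.Agent.Omega.LFive.Frame
import Cfsg.Agent.Omega.NO3S.LightFive.OnePF
import Cfsg.Agent.Omega.NO3S.LightFive.TwoAInst
import Cfsg.Agent.Omega.NO3S.LightFive.TwoAFacts

/-!
# LightL (E), `n = 5`: (A) over the common frame

`LF.dd_le` : if `J(O₂(D))` moves `V`, then `D ≤ L*` for every `L* ≥ N_G(V), C_G(p 2, p 3, p 4)`
(649's `Dt.le`, 220's facts, (1') = `OnePF.one`).
-/

set_option autoImplicit false
set_option linter.unusedSectionVars false

namespace Cfsg.Agent.Omega.LFive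

open Subgroup Cfsg Cfsg.Agent.ZN Cfsg.Agent.ZN.ChoiceBase
open Cfsg.Agent.Omega.NTwo (nn aa Std mem_cent cm)
open Cfsg.Agent.Omega.NO3S.Sym.Light (FiveL DD le_DD)
open Cfsg.Agent.Omega.NO3S.LightFive (OnePF.one)
open Cfsg.Agent.Omega.NO3S.TwoJ (UR)

universe u

variable {G : Type u} [Group G] [Finite G] {S : Sylow 2 G} {P : Subgroup G} {p : Fin 5 → G}

theorem le_UR {R V : Subgroup G} : V ≤ UR R V := fun v hv => subset_closure ⟨1, R.one_mem, v, hv, by group⟩

theorem norm_UR {R V : Subgroup G} : R ≤ normalizer (UR R V : Set G) := by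
  have key : ∀ r ∈ R, ∀ x ∈ UR R V, r * x * r⁻¹ ∈ UR R V := by
    intro r hr x hx
    have h1 : UR R V ≤ cj r⁻¹ (UR R V) := by
      rw [UR, closure_le]
      rintro _ ⟨s, hs, v, hv, rfl⟩
      refine mem_cj.2 ?_
      refine subset_closure ⟨r * s, R.mul_mem hr hs, v, hv, ?_⟩
      group
    have h2 := mem_cj.1 (h1 hx)
    rwa [inv_inv] at h2
  intro r hr
  refine mem_normalizer_iff.2 fun x => ⟨key r hr x, fun hx => ?_⟩
  have h2 := key r⁻¹ (R.inv_mem hr) _ hx
  have e : r⁻¹ * (r * x * r⁻¹) * r⁻¹⁻¹ = x := by group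
  rwa [e] at h2

/-- **(A)** -/
theorem LF.dd_le (h : LF S P p) {Ls : Subgroup G} (hL : ll S P ≤ Ls) (hX : centralizer {p 2, p 3, p 4} ≤ Ls)
    (hJ : ¬ jj (o2 (dd p)) ≤ centralizer (zl (S : Subgroup G) P : Set G)) : dd p ≤ Ls := by
  have hV : NO3S.LightFive.TwoA.VV p = zl (S : Subgroup G) P := h.gen.symm
  obtain ⟨A, hA, hAV⟩ : ∃ A ∈ AA (o2 (dd p)), ¬ A ≤ centralizer (zl (S : Subgroup G) P : Set G) := by
    by_contra hcon
    push Not at hcon
    apply hJ
    rw [jj_eq]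
    exact sSup_le fun A hA => hcon A hA
  have hd : NO3S.LightFive.TwoA.Dt (ll S P) Ls (Std.T (S : Subgroup G) p) (DD (zl (S : Subgroup G) P) (p 4)) p :=
    { fv := NO3S.LightFive.TwoAPlug.fv_N h.toFiveL
      cv := by rw [hV]; exact centralizer_le_normalizer _
      LLs := hL
      cen := NO3S.LightFive.TwoAPlug.cen h.toFiveL hL hX
      syl := NO3S.LightB.sylD h.toFiveL
      TL := le_normalizer.trans h.nT
      nT := fun g _ hg => hL (h.nT hg)
      Uc := NO3S.LightFive.TwoAPlug.U_comm h.toFiveL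
      Us := NO3S.LightFive.TwoAPlug.U_sq h.toFiveL
      VU := by rw [hV]; exact le_DD
      nU := NO3S.LightFive.TwoAPlug.nU
      one := fun R hR hRD _ M _ hM hMn hMK => by
        rw [hV] at hM
        refine Subgroup.le_centralizer_iff.1 (NO3S.LightFive.OnePF.one h.toFiveL h.zq hA hAV hR hRD
          (hM _ le_UR norm_UR) hMn fun k hk m hm => ?_)
        exact mem_centralizer_iff.1 (hMK hm) k hk }
  refine hd.le ?_
  rw [hV]
  exact hJ

end Cfsg.Agent.Omega.LFive
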