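import Cfsg.Agent.Omega.LFive.FalseLF

/-!
# `ELX K` (LightL (E) over the case (L)) from `NoWFive K`
-/

set_option autoImplicit false

namespace Cfsg.Agent.Omega.LFive

open Cfsg Cfsg.Agent.Omega.Frame

universe u

/-- **`ELX K`**, from `MLK`, `Ext` and `NoWFive K`. -/
theorem elx_of_noW {K : Cls.{u}} (hML : ML.Final.MLK.{u, u}) (hE : ML.Ex.Two.Ext.{u, u})
    (hW : Node.ELXUni.NoWFive K) : Node.CaseLPEnds.ELX K :=
  elx_of (falseLF hML hE) hW

end Cfsg.Agent.Omega.LFive
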