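import Cfsg.Agent.Omega.LFive.DdLe
import Cfsg.Agent.Omega.LFive.ELXEnd
import Cfsg.Agent.Omega.NO3S.LightB.End

/-!
# LightL (E), `n = 5`: there is no `LF S P p`

* `LF.false_of` : 904's `false_of_J` (`J(O₂(D))` centralises `V`), 427's `local_five` and `LF.dd_le` (it does not);
* `falseLF : MLK → Ext → FalseLF`.
-/

set_option autoImplicit false

namespace Cfsg.Agent.Omega.LFive

open Subgroup Cfsg Cfsg.Agent.ZN Cfsg.Agent.ZN.ChoiceBase

universe u

/-- **LightL (E), `n = 5`** -/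
theorem LF.false_of {G : Type u} [Group G] [Finite G] {S : Sylow 2 G} {P : Subgroup G} {p : Fin 5 → G}
    (h : LF S P p) (hML : ML.Final.MLK.{u, u}) (hE : ML.Ex.Two.Ext.{u, u}) : False := by
  by_cases hJ : jj (o2 (dd p)) ≤ centralizer (zl (S : Subgroup G) P : Set G)
  · exact NO3S.LightB.false_of_J h hML hE hJ
  · obtain ⟨R, hR, hR2, hL, hX⟩ := NO3S.MFive.Inst.local_five h.toFiveL hML h.zq
    exact h.false_of_local' hR2 hR (h.dd_le hL hX hJ) hL

/-- **`FalseLF`** -/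
theorem falseLF (hML : ML.Final.MLK.{u, u}) (hE : ML.Ex.Two.Ext.{u, u}) : FalseLF.{u} :=
  fun _ _ _ _ _ _ h => h.false_of hML hE

end Cfsg.Agent.Omega.LFive
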