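import Cfsg.Agent.Omega.LFive.ELightOf
import Cfsg.Agent.Omega.LFive.FalseLF

/-!
# `ELight K` is a theorem (LightL (E), `HypL`, `n = 5`)
-/

set_option autoImplicit false

namespace Cfsg.Agent.Omega.LFive

open Cfsg Cfsg.Agent.Omega.Frame

universe u

/-- **`ELight K`**, from `MLK` and `Ext`. -/
theorem eLight {K : Cls.{u}} (hML : ML.Final.MLK.{u, u}) (hE : ML.Ex.Two.Ext.{u, u}) : Node.SymOf.ELight K :=
  eLight_of (falseLF hML hE)

end Cfsg.Agent.Omega.LFive
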