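import Cfsg.Agent.Omega.LFive.ELightDone

/-!
The theorem `Cfsg.Agent.Omega.LFive.eLight` is in `ELightDone.lean`; this file only imports it (it was a duplicate).
-/
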