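import Cfsg.Agent.Omega.LFive.FrameL
import Cfsg.Agent.Omega.NO3S.Sym.UnnOf
import Cfsg.Agent.Omega.Node.LightOf

/-!
# `ELight K` (LightL (E), `HypL`) from the absurdity of the common frame `LF`

UNI over `T` is `NO3S.Sym.UnnOf.unn_of`, the rest of `LF` is `lf_of_mulS`.
-/

set_option autoImplicit false

namespace Cfsg.Agent.Omega.LFive

open Subgroup Cfsg Cfsg.Agent.ZN Cfsg.Agent.Omega.MinPar Cfsg.Agent.Omega.Frame
open Cfsg.Agent.Omega.Node.MultiOf (NLoc KZ)
open Cfsg.Agent.Omega.Node.SymOf (MulS)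
open Cfsg.Agent.Omega.NO3S.Sym.Light (FiveL)

universe u

/-- **`LF S P p` for `HypL`** (every stage), no hypothesis left. -/
theorem lf_of_light {G : Type u} [Group G] [Finite G] {S : Sylow 2 G} {P K' B ZJ : Subgroup G} {ι : Type}
    {L W Z C : ι → Subgroup G} {p : Fin 5 → G} (hM : MulS S P K' B ZJ L W Z C 1 2) (hN : NLoc (KZ B ZJ))
    (h : FiveL S P p) : LF S P p :=
  lf_of_mulS hM hN h fun _ hR hRn hRa => NO3S.Sym.UnnOf.unn_of hM h hR hRn hRa

/-- **`ELight K`** -/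
theorem eLight_of {K : Cls.{u}}
    (hF : ∀ (G : Type u) [Group G] [Finite G] (S : Sylow 2 G) (P : Subgroup G) (p : Fin 5 → G), ¬ LF S P p) :
    Node.SymOf.ELight K :=
  fun G _ _ _ S P _ _ _ _ _ _ _ _ hM hN p h => (hF G S P p (lf_of_light hM hN h)).elim

end Cfsg.Agent.Omega.LFive
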