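import Cfsg.Agent.Omega.LFive.EndJU
import Cfsg.Agent.Omega.NO3S.LightB.XL
import Cfsg.Agent.Omega.NO3S.MFive.EEmpty
import Cfsg.Agent.Omega.NO3S.MFive.WThree

/-!
# LightL (E), `n = 5`, over the common frame `LF`: `J(O₂(D))` centralises `V` — a contradiction

* `LF.false_of_J`.
-/

set_option autoImplicit false
set_option linter.unusedSectionVars false

namespace Cfsg.Agent.Omega.LFive

open Subgroup Cfsg Cfsg.Agent.ZN Cfsg.Agent.Omega.MinPar Cfsg.Agent.Omega.Frame
open Cfsg.Agent.Omega.NTwo (nn aa Std mem_cent cm)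
open Cfsg.Agent.Omega.NO3S.Sym.Light (FiveL)
open Cfsg.Agent.Omega.NO3S
open scoped Pointwise

universe u

variable {G : Type u} [Group G] [Finite G] {S : Sylow 2 G} {P : Subgroup G} {p : Fin 5 → G}

/-- **`J(O₂(D))` does not centralise `V`.** -/
theorem LF.false_of_J (h : LF S P p) (hML : ML.Final.MLK.{u, u}) (hE : ML.Ex.Two.Ext.{u, u})
    (J : jj (o2 (dd p)) ≤ centralizer (zl (S : Subgroup G) P : Set G)) : False := by
  by_cases hX : MFive.X (MFive.Inst.zv p) 1 2 ≤ normalizer (zl (S : Subgroup G) P : Set G)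
  · exact LightB.xl_false h hML hE J hX
  · obtain ⟨g, hg, f, eD⟩ := LightB.failHyp h.toFiveL h.nT h.uni J (kg_cent h.ctx h.std.n_ne_one) hML hE h.zq hX
    obtain ⟨R, hR1, hR2, hL, hD⟩ := f.local_all (MFive.WThree.w3_zv h.toFiveL)
    refine h.false_of_local' hR2 hR1 ?_ hL
    rw [eD] at hD
    have h1 : ChoiceBase.cj g (dd p) ≤ ChoiceBase.cj g (normalizer (R : Set G)) := by
      rw [ChoiceBase.cj_eq_of_mem_normalizer (le_normalizer (H := normalizer (R : Set G)) (hL hg))]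
      exact hD
    have h2 := ChoiceBase.cj_mono g⁻¹ h1
    rwa [ChoiceBase.cj_inv_cj, ChoiceBase.cj_inv_cj] at h2

end Cfsg.Agent.Omega.LFive
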