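import Cfsg.Agent.Omega.LFive.Frame
import Cfsg.Agent.Omega.NO3S.LightB.Facts
import Cfsg.Agent.Omega.NO3S.TwoB.Main

/-!
# LightL (E), `n = 5`: the end from `J(O₂(D)) ≤ C(U_z)` (helper582 #26032 (6))

`D = C_G(n, a)`, `U_z = ⟨V^C_G(p 4)⟩`.  `J(O₂(C_G(a)))` centralises `U_(p 1) ≥ ⟨a^(C_G(p 0, p 1) T)⟩`, so by
`TwoB.DtB.fail` it centralises `⟨a^C_G(n)⟩`, and `J(O₂(C_G(a))) = J(O₂(C_G(n)))`.

* `LF.dtB` : the instance of `TwoB.DtB`;
* **`LF.false_of_JU`**.
-/

set_option autoImplicit false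
set_option linter.unusedSectionVars false

namespace Cfsg.Agent.Omega.LFive

open Subgroup Cfsg Cfsg.Agent.Omega.MinPar Cfsg.Agent.Omega.Frame
open Cfsg.Agent.ZN (o2 jj zc zl mem_zc)
open Cfsg.Agent.ZN.ChoiceBase (AA mm_eq mem_AA_iff jj_eq jj_le le_jj jj_cj cj_inf cj_centralizer cj cj_mono cj_cj
  mem_cj cj_le_iff cj_inv_cj cj_cj_inv cj_mem_AA mem_normalizer_iff_cj cj_eq_of_mem_normalizer AA_nonempty)
open Cfsg.Agent.ZN.ChoiceSit (o2_cj)
open Cfsg.Agent.MinSimple.MinParabolic (IsMinPar)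
open Cfsg.Agent.MinSimple.VModule (o2_isPGroup o2_le le_normalizer_o2)
open Cfsg.Agent.Omega.EK3.Rank
open Cfsg.Agent.Omega.NTwo (nn aa Std mem_cent cm)
open Cfsg.Agent.Omega.NO3S.Sym.Light (FiveL DD)
open Cfsg.Agent.Omega.NO3S.TwoB (DtB V_le_of Z_le le_norm_V)
open Cfsg.Agent.Omega.NoFF.Basic (comm_symm comm_mono)
open scoped Pointwise

universe u

variable {G : Type u} [Group G]

theorem cent_zpowers (x : G) : centralizer (zpowers x : Set G) = centralizer ({x} : Set G) := by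
  rw [zpowers_eq_closure, centralizer_closure]

/-- `⟨Z^K⟩` is normalised by `N(K) ∩ N(Z)` -/
theorem norm_V_of {Z K : Subgroup G} {x : G} (hK : x ∈ normalizer (K : Set G)) (hZ : x ∈ normalizer (Z : Set G)) :
    x ∈ normalizer (NoFF.Basic.V Z K : Set G) := by
  have key : ∀ x : G, x ∈ normalizer (K : Set G) → x ∈ normalizer (Z : Set G) →
      cj x (NoFF.Basic.V Z K) ≤ NoFF.Basic.V Z K := by
    intro x hK hZ
    rw [cj_le_iff]
    refine NoFF.Basic.V_le fun k hk => ?_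
    have h2 : cj x (cj k Z) ≤ NoFF.Basic.V Z K := by
      have e : cj x (cj k Z) = cj (x * k * x⁻¹) (cj x Z) := by
        rw [cj_cj, cj_cj]
        congr 1
        group
      rw [e, cj_eq_of_mem_normalizer hZ]
      exact NoFF.Basic.Z_le_V ((mem_normalizer_iff.1 hK k).1 hk)
    exact cj_le_iff.1 h2
  rw [mem_normalizer_iff_cj]
  refine le_antisymm (key x hK hZ) ?_
  have h1 := cj_mono x (key x⁻¹ (inv_mem hK) (inv_mem hZ))
  rwa [cj_cj_inv] at h1

theorem kg_cent [Finite G] (hG : Ctx G) {p : G} (hp : p ≠ 1) : IsKGroup (centralizer ({p} : Set G)) := by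
  refine hG.kproper _ fun e => ?_
  have hs := hG.simple
  have h1 : p ∈ center G := by
    rw [mem_center_iff]
    intro g
    have : g ∈ centralizer ({p} : Set G) := by rw [e]; exact mem_top g
    exact mem_centralizer_singleton_iff.mp this
  rcases hs.eq_bot_or_eq_top_of_normal (center G) inferInstance with h2 | h2
  · rw [h2, mem_bot] at h1
    exact hp h1
  · apply hG.nonComm
    refine ⟨⟨fun a b => ?_⟩⟩
    have : a ∈ center G := by rw [h2]; exact mem_top a
    exact (mem_center_iff.mp this b).symm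

namespace LF

variable [Finite G] {S : Sylow 2 G} {P : Subgroup G} {p : Fin 5 → G} (h : LF S P p)
include h

/-- an element of `C_L(n)` fixes or interchanges `p 0`, `p 1` -/
theorem pair {g : G} (hg : g ∈ ll S P) (hn : g ∈ cn p) :
    (g * p 0 * g⁻¹ = p 0 ∧ g * p 1 * g⁻¹ = p 1) ∨ (g * p 0 * g⁻¹ = p 1 ∧ g * p 1 * g⁻¹ = p 0) := by
  obtain ⟨σ, hσ⟩ := h.act hg
  have h2 := mem_cent.1 hn
  rw [nn, cm, hσ, hσ] at h2
  rw [hσ, hσ]
  rcases h.std.pair_inj (fun e => absurd (σ.injective e) (by decide)) (by decide) h2 with ⟨e1, e2⟩ | ⟨e1, e2⟩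
  · exact Or.inl ⟨by rw [e1], by rw [e2]⟩
  · exact Or.inr ⟨by rw [e1], by rw [e2]⟩

/-- the elements of odd order of `C_L(n)` centralise `p 0`, `p 1` -/
theorem odd_pair {g : G} (hg : g ∈ ll S P) (hn : g ∈ cn p) (ho : Odd (orderOf g)) :
    g ∈ centralizer ((closure {p 0, p 1} : Subgroup G) : Set G) := by
  have key : g * p 0 * g⁻¹ = p 0 ∧ g * p 1 * g⁻¹ = p 1 := by
    rcases h.pair hg hn with h1 | ⟨h1, h2⟩
    · exact h1
    · exfalso
      obtain ⟨k, hk⟩ := ho
      have h3 : ∀ m : ℕ, (g ^ (2 * m)) * p 0 * (g ^ (2 * m))⁻¹ = p 0 := by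
        intro m
        induction m with
        | zero => simp
        | succ m ih =>
          have e : g ^ (2 * (m + 1)) = g * g * g ^ (2 * m) := by
            rw [← pow_two, ← pow_add]
            congr 1
            ring
          rw [e]
          calc g * g * g ^ (2 * m) * p 0 * (g * g * g ^ (2 * m))⁻¹
              = g * (g * (g ^ (2 * m) * p 0 * (g ^ (2 * m))⁻¹) * g⁻¹) * g⁻¹ := by group
            _ = p 0 := by rw [ih, h1, h2]
      have h4 : g ^ (2 * (k + 1)) = g := by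
        have : 2 * (k + 1) = orderOf g + 1 := by rw [hk]; ring
        rw [this, pow_succ, pow_orderOf_eq_one, one_mul]
      have h5 := h3 (k + 1)
      rw [h4, h1] at h5
      exact absurd (h.std.inj h5) (by decide)
  rw [centralizer_closure]
  refine mem_centralizer_iff.2 ?_
  rintro x (rfl | rfl)
  · exact (mul_inv_eq_iff_eq_mul.1 key.1).symm
  · exact (mul_inv_eq_iff_eq_mul.1 key.2).symm

/-- `C_L(n)` normalises `⟨p 0, p 1⟩` -/
theorem norm_pair {g : G} (hg : g ∈ ll S P) (hn : g ∈ cn p) :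
    g ∈ normalizer ((closure {p 0, p 1} : Subgroup G) : Set G) := by
  have key : ∀ g : G, g ∈ ll S P → g ∈ cn p → cj g (closure {p 0, p 1}) ≤ closure {p 0, p 1} := by
    intro g hg hn
    rw [cj_le_iff, closure_le]
    have m0 : p 0 ∈ closure ({p 0, p 1} : Set G) := subset_closure (Or.inl rfl)
    have m1 : p 1 ∈ closure ({p 0, p 1} : Set G) := subset_closure (Or.inr rfl)
    rintro x (rfl | rfl)
    · change p 0 ∈ cj g⁻¹ _
      rw [mem_cj, inv_inv]
      rcases h.pair hg hn with ⟨h1, h2⟩ | ⟨h1, h2⟩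
      · rw [h1]; exact m0
      · rw [h1]; exact m1
    · change p 1 ∈ cj g⁻¹ _
      rw [mem_cj, inv_inv]
      rcases h.pair hg hn with ⟨h1, h2⟩ | ⟨h1, h2⟩
      · rw [h2]; exact m1
      · rw [h2]; exact m0
  rw [mem_normalizer_iff_cj]
  refine le_antisymm (key g hg hn) ?_
  have h1 := cj_mono g (key g⁻¹ (inv_mem hg) (inv_mem hn))
  rwa [cj_cj_inv] at h1

theorem T_ll : Std.T (S : Subgroup G) p ≤ ll S P := Subgroup.le_normalizer.trans h.nT

/-- the elements of `⟨p 0, p 1⟩` which are fixed by `T` -/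
theorem fix_pair {x : G} (hx : x ∈ closure ({p 0, p 1} : Set G))
    (hT : x ∈ centralizer ((Std.T (S : Subgroup G) p : Subgroup G) : Set G)) : x = 1 ∨ x = nn p := by
  have e00 := h.std.sq 0
  have e11 := h.std.sq 1
  have e10 := h.std.comm 1 0
  have hmem : x = 1 ∨ x = p 0 ∨ x = p 1 ∨ x = p 0 * p 1 := by
    clear hT
    refine closure_induction (p := fun x _ => x = 1 ∨ x = p 0 ∨ x = p 1 ∨ x = p 0 * p 1) ?_ (Or.inl rfl) ?_ ?_ hx
    · rintro y (rfl | rfl)
      · exact Or.inr (Or.inl rfl)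
      · exact Or.inr (Or.inr (Or.inl rfl))
    · rintro a b - - ha hb
      have e0n : p 0 * (p 0 * p 1) = p 1 := by rw [← mul_assoc, e00, one_mul]
      have e1n : p 1 * (p 0 * p 1) = p 0 := by rw [← mul_assoc, e10, mul_assoc, e11, mul_one]
      have en0 : p 0 * p 1 * p 0 = p 1 := by rw [mul_assoc, e10, ← mul_assoc, e00, one_mul]
      have en1 : p 0 * p 1 * p 1 = p 0 := by rw [mul_assoc, e11, mul_one]
      have enn : p 0 * p 1 * (p 0 * p 1) = 1 := h.std.nsq
      rcases ha with rfl | rfl | rfl | rfl <;> rcases hb with rfl | rfl | rfl | rfl <;>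
        simp [e00, e11, e10, e0n, e1n, en0, en1, enn]
    · rintro a - ha
      have i0 : (p 0)⁻¹ = p 0 := inv_eq_of_mul_eq_one_left e00
      have i1 : (p 1)⁻¹ = p 1 := inv_eq_of_mul_eq_one_left e11
      rcases ha with rfl | rfl | rfl | rfl
      · exact Or.inl inv_one
      · exact Or.inr (Or.inl i0)
      · exact Or.inr (Or.inr (Or.inl i1))
      · refine Or.inr (Or.inr (Or.inr ?_))
        rw [mul_inv_rev, i0, i1, e10]
  have hsq : x ^ 2 = 1 := by
    rw [pow_two]
    rcases hmem with rfl | rfl | rfl | rfl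
    · exact mul_one 1
    · exact e00
    · exact e11
    · exact h.std.nsq
  have hxT : x ∈ Std.T (S : Subgroup G) p := by
    have t0 : p 0 ∈ Std.T (S : Subgroup G) p := Std.mem_T.2 ⟨h.std.mem 0,
      mul_inv_eq_iff_eq_mul.2 (by rw [nn, mul_assoc (p 0) (p 1) (p 0), e10])⟩
    have t1 : p 1 ∈ Std.T (S : Subgroup G) p := Std.mem_T.2 ⟨h.std.mem 1,
      mul_inv_eq_iff_eq_mul.2 (by rw [nn, ← mul_assoc, e10])⟩
    rcases hmem with rfl | rfl | rfl | rfl
    · exact one_mem _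
    · exact t0
    · exact t1
    · exact mul_mem t0 t1
  have hz : x ∈ zc (Std.T (S : Subgroup G) p) := by
    rw [mem_zc]
    exact ⟨hxT, fun y hy => mem_centralizer_iff.1 hT y hy, hsq⟩
  rcases h.std.mem_zcT.1 hz with h1 | h1 | h1 | h1
  · exact Or.inl h1
  · exact Or.inr h1
  · exfalso
    rcases hmem with h2 | h2 | h2 | h2
    · exact h.std.a_ne_one (h1.symm.trans h2)
    · exact h.std.mul_ne (i := 2) (j := 3) (by decide) 0 (h1.symm.trans h2)
    · exact h.std.mul_ne (i := 2) (j := 3) (by decide) 1 (h1.symm.trans h2)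
    · exact h.std.n_ne_a (h2.symm.trans h1)
  · exfalso
    rcases hmem with h2 | h2 | h2 | h2
    · exact h.std.ne 4 (h1.symm.trans h2)
    · exact absurd (h.std.inj (h1.symm.trans h2)) (by decide)
    · exact absurd (h.std.inj (h1.symm.trans h2)) (by decide)
    · exact h.std.n_ne_four (h2.symm.trans h1)

/-- **the instance of `TwoB.DtB`** -/
theorem dtB (hJ : jj (o2 (dd p)) ≤ centralizer (zl (S : Subgroup G) P : Set G)) :
    DtB (cn p) (Std.T (S : Subgroup G) p) (DD (zl (S : Subgroup G) P) (nn p)) (zl (S : Subgroup G) P)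
      (zpowers (aa p)) (closure {p 0, p 1}) where
  CM := NO3S.LightB.norm_DD
  eM := NO3S.LightB.DD_el h.toFiveL
  MV := le_rfl
  TC := NO3S.LightB.T_le_C
  two := NO3S.LightB.T_two
  syl := h.not_dvd
  ZM := zpowers_le.2 (NO3S.LightB.a_mem_DD h.toFiveL)
  YM := by
    rw [closure_le]
    rintro x (rfl | rfl)
    · exact NO3S.LightB.p_mem_DD h.toFiveL 0
    · exact NO3S.LightB.p_mem_DD h.toFiveL 1
  TZ := by
    rw [cent_zpowers]
    exact NO3S.LightB.T_le_Ca h.toFive
  NZ := by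
    rw [cent_zpowers]
    exact (NO3S.LightB.norm_le_D h.toFiveL).trans inf_le_right
  NY := fun g hg => h.norm_pair (h.nT hg.2) hg.1
  cY := by
    rintro x ⟨hx, hT⟩
    refine mem_centralizer_iff.2 fun c hc => ?_
    rcases h.fix_pair hx hT with rfl | rfl
    · rw [mul_one, one_mul]
    · exact mem_centralizer_singleton_iff.1 hc
  uni := by
    intro R hR hRC hRZ g hg ho
    rw [cent_zpowers] at hRZ
    exact h.odd_pair (h.uni R hR hRC hRZ hg) (hRC hg) ho
  MO := by
    rw [cent_zpowers]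
    exact NO3S.LightB.DD_le_o2D h.toFiveL
  J := by
    rw [cent_zpowers]
    exact hJ
  K := kg_cent h.ctx h.std.n_ne_one

/-- `U_z = ⟨V^C_G(z)⟩` -/
abbrev uu (S : Sylow 2 G) (P : Subgroup G) (x : G) : Subgroup G :=
  NoFF.Basic.V (zl (S : Subgroup G) P) (centralizer ({x} : Set G))

/-- **The end** -/
theorem false_of_JU (hML : ML.Final.MLK.{u, u}) (hE : ML.Ex.Two.Ext.{u, u})
    (ju : jj (o2 (dd p)) ≤ centralizer (uu S P (p 4) : Set G)) : False := by
  have hJ : jj (o2 (dd p)) ≤ centralizer (zl (S : Subgroup G) P : Set G) :=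
    ju.trans (centralizer_le (Z_le _ _))
  have D := h.dtB hJ
  have hdd : cn p ⊓ centralizer (zpowers (aa p) : Set G) = dd p := by rw [cent_zpowers]
  set N := NoFF.Basic.V (zpowers (aa p)) (cn p) with hN
  have hNe : IsElementaryAbelian 2 N := NO3S.EThree.ExactA.eab_mono D.eM D.NM
  have hNO : N ≤ o2 (dd p) := by
    rw [← hdd]
    exact D.NM.trans D.MO
  have noN : NoOn (o2 (dd p)) N := by
    rw [← hdd]
    exact D.noOn hML D.TC le_rfl
  have hQ : o2 (dd p) ⊓ centralizer (N : Set G) = o2 (cn p) := by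
    rw [← hdd]
    exact D.Q_eq
  obtain ⟨s, hsS, hs1, hs2, hsT⟩ := NO3S.LightB.swap h.toFive
  have csn : cj s (cn p) = ca p := by
    ext x
    rw [mem_cj, mem_cent, mem_cent]
    constructor
    · intro hx
      calc x * aa p * x⁻¹ = s * (s⁻¹ * x * s * (s⁻¹ * aa p * s) * (s⁻¹ * x * s)⁻¹) * s⁻¹ := by group
        _ = s * (s⁻¹ * x * s * nn p * (s⁻¹ * x * s)⁻¹) * s⁻¹ := by rw [← hs1]; group
        _ = aa p := by rw [hx, hs1]
    · intro hx
      calc s⁻¹ * x * s * nn p * (s⁻¹ * x * s)⁻¹ = s⁻¹ * (x * (s * nn p * s⁻¹) * x⁻¹) * s := by group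
        _ = s⁻¹ * aa p * s := by rw [hs1, hx]
        _ = nn p := by rw [← hs1]; group
  have csa : cj s (ca p) = cn p := by
    ext x
    rw [mem_cj, mem_cent, mem_cent]
    constructor
    · intro hx
      calc x * nn p * x⁻¹ = s * (s⁻¹ * x * s * (s⁻¹ * nn p * s) * (s⁻¹ * x * s)⁻¹) * s⁻¹ := by group
        _ = s * (s⁻¹ * x * s * aa p * (s⁻¹ * x * s)⁻¹) * s⁻¹ := by rw [← hs2]; group
        _ = nn p := by rw [hx, hs2]
    · intro hx
      calc s⁻¹ * x * s * aa p * (s⁻¹ * x * s)⁻¹ = s⁻¹ * (x * (s * aa p * s⁻¹) * x⁻¹) * s := by group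
        _ = s⁻¹ * nn p * s := by rw [hs2, hx]
        _ = aa p := by rw [← hs2]; group
  have cdd : cj s (dd p) = dd p := by
    rw [dd, cj_inf, csn, csa, inf_comm]
  -- `AA(Q_n) ⊆ AA(O)`, `AA(Q_a) ⊆ AA(O)`
  have hAn : ∀ A ∈ AA (o2 (cn p)), A ∈ AA (o2 (dd p)) := by
    intro A hA
    rw [← hQ] at hA
    exact mem_AA_of_inf hNe hNO noN hA
  have hAa : ∀ A ∈ AA (o2 (ca p)), A ∈ AA (o2 (dd p)) := by
    intro A hA
    have h1 : cj s⁻¹ A ∈ AA (o2 (cn p)) := by
      have h2 := cj_mem_AA s⁻¹ hA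
      rwa [← o2_cj, ← csn, cj_inv_cj] at h2
    have h2 := cj_mem_AA s (hAn _ h1)
    rwa [cj_cj_inv, ← o2_cj, cdd] at h2
  by_cases hc : ∀ A ∈ AA (o2 (ca p)), A ≤ centralizer (N : Set G)
  · -- `J(Q_a) = J(Q_n)`
    have h1 : ∀ A ∈ AA (o2 (ca p)), A ∈ AA (o2 (cn p)) := by
      intro A hA
      rw [← hQ]
      exact mem_inf_of_mem_AA hNe hNO noN (hAa A hA) (hc A hA)
    have h2 : ∀ A ∈ AA (o2 (cn p)), A ∈ AA (o2 (ca p)) := by
      intro A hA
      have h3 : cj s A ∈ AA (o2 (ca p)) := by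
        have h4 := cj_mem_AA s hA
        rwa [← o2_cj, csn] at h4
      have h4 := cj_mem_AA s⁻¹ (h1 _ h3)
      rwa [cj_inv_cj, ← o2_cj, ← csa, cj_inv_cj] at h4
    have e : AA (o2 (cn p)) = AA (o2 (ca p)) := Set.Subset.antisymm h2 h1
    have hn : cn p ≤ normalizer (jj (o2 (cn p)) : Set G) := by
      intro g hg
      rw [mem_normalizer_iff_cj, ← jj_cj, cj_eq_of_mem_normalizer (le_normalizer_o2 _ hg)]
    have ha : ca p ≤ normalizer (jj (o2 (cn p)) : Set G) := by
      rw [jj_eq, e, ← jj_eq]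
      intro g hg
      rw [mem_normalizer_iff_cj, ← jj_cj, cj_eq_of_mem_normalizer (le_normalizer_o2 _ hg)]
    refine h.false_of_local (R := jj (o2 (cn p))) ((o2_isPGroup _).to_le (jj_le _)) ?_ (inf_le_left.trans hn)
      (inf_le_right.trans hn) (inf_le_right.trans ha)
    intro hb
    obtain ⟨A, hA⟩ := AA_nonempty (o2 (cn p))
    have h3 := hA.2.2 _ (NO3S.LightB.DD_el h.toFiveL) h.DD_le_o2
    have h4 : A = ⊥ := le_bot_iff.1 ((le_jj hA).trans hb.le)
    rw [h4, card_bot] at h3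
    have h5 : DD (zl (S : Subgroup G) P) (nn p) = ⊥ := by
      rw [← card_eq_one]
      exact le_antisymm h3 Nat.card_pos
    have h6 : nn p ∈ (⊥ : Subgroup G) := h5 ▸ NO3S.LightB.n_mem_DD h.toFiveL
    exact h.std.n_ne_one (mem_bot.1 h6)
  · -- FAIL
    push Not at hc
    obtain ⟨A, hA, hmv⟩ := hc
    apply hmv
    have hAO : A ∈ AA (o2 (cn p ⊓ centralizer (zpowers (aa p) : Set G))) := by
      rw [hdd]
      exact hAa A hA
    have hf := D.fail hML hE hAO
    refine le_trans (le_inf le_rfl ?_) hf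
    -- `g` interchanges `p 1` and `p 4` and fixes `p 2`, `p 3`
    obtain ⟨g, hg, hσ⟩ := h.fullL (Equiv.swap 1 4)
    have g2 : g * p 2 * g⁻¹ = p 2 := by rw [hσ]; rfl
    have g3 : g * p 3 * g⁻¹ = p 3 := by rw [hσ]; rfl
    have g4 : g * p 4 * g⁻¹ = p 1 := by rw [hσ, Equiv.swap_apply_right]
    have gaa : g ∈ ca p := by
      rw [mem_cent, aa, cm, g2, g3]
    have gV : cj g (zl (S : Subgroup G) P) = zl (S : Subgroup G) P := cj_eq_of_mem_normalizer hg
    have hAU : A ≤ centralizer (uu S P (p 1) : Set G) := by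
      have h1 : cj g⁻¹ A ∈ AA (o2 (ca p)) := by
        have h2 := cj_mem_AA g⁻¹ hA
        rwa [cj_eq_of_mem_normalizer (le_normalizer_o2 _ (inv_mem gaa))] at h2
      have h2 := (le_jj (hAa _ h1)).trans ju
      have h3 := cj_mono g h2
      rw [cj_cj_inv, cj_centralizer] at h3
      refine h3.trans (centralizer_le ?_)
      -- `U_(p 1) ≤ (U_(p 4))^g`
      refine V_le_of ?_ ?_
      · rw [← gV]
        exact cj_mono g (Z_le _ _)
      · rw [← Cfsg.Agent.ZN.ChoiceBase.cj_normalizer]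
        refine le_trans ?_ (cj_mono g (le_norm_V _ _))
        intro x hx
        rw [mem_cj, mem_cent]
        rw [mem_cent] at hx
        calc g⁻¹ * x * g * p 4 * (g⁻¹ * x * g)⁻¹ = g⁻¹ * (x * (g * p 4 * g⁻¹) * x⁻¹) * g := by group
          _ = g⁻¹ * p 1 * g := by rw [g4, hx]
          _ = p 4 := by rw [← g4]; group
    refine hAU.trans (centralizer_le ?_)
    -- `⟨a^(C_G(p 0, p 1) T)⟩ ≤ U_(p 1)`
    set K : Subgroup G := cn p ⊓ centralizer ((closure {p 0, p 1} : Subgroup G) : Set G) with hK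
    have hKU : NoFF.Basic.V (zpowers (aa p)) K ≤ uu S P (p 1) := by
      refine V_le_of ((zpowers_le.2 h.a_mem).trans (Z_le _ _)) ?_
      refine le_trans ?_ (le_norm_V _ _)
      refine inf_le_right.trans (centralizer_le ?_)
      rintro x rfl
      exact subset_closure (Or.inr rfl)
    have hT : Std.T (S : Subgroup G) p ≤ normalizer (NoFF.Basic.V (zpowers (aa p)) K : Set G) := by
      intro t ht
      have t1 : t ∈ cn p := NO3S.LightB.T_le_C ht
      refine norm_V_of ?_ ?_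
      · refine (inf_normalizer_le_normalizer_inf : _) ⟨Subgroup.le_normalizer t1, ?_⟩
        exact ML.GMod.nc _ (h.norm_pair (h.T_ll ht) t1)
      · exact centralizer_le_normalizer _ (D.TZ ht)
    exact (V_le_of (Z_le _ _) (sup_le (le_norm_V _ _) hT)).trans hKU

end LF

end Cfsg.Agent.Omega.LFive
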