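import Cfsg.Agent.Omega.LFive.Frame
import Cfsg.Agent.Omega.NO3S.LN.Perm
import Cfsg.Agent.Omega.NO3S.MFive.Inst
import Cfsg.Agent.Omega.NO3S.LightB.Facts

/-!
# LightL (E), `n = 5`: the instance of `MFive.FailHyp` over `LFive.LF`

`zf p = ![p 0, p 2, p 3, p 4, p 1]` : the pairs `{0, 4}`, `{1, 2}` have the products `n`, `a`.

* `fr5` : `Fr5` for `zv p` (helper427); `exists_fr5` : `Fr5` for `zf p`;
* `failHyp` : `FailHyp` from `fail`.
-/

set_option autoImplicit false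
set_option linter.unusedSectionVars false

namespace Cfsg.Agent.Omega.LFive

open Subgroup Cfsg Cfsg.Agent.ZN Cfsg.Agent.ZN.ChoiceBase
open Cfsg.Agent.ZN.ChoiceSit (Syl)
open Cfsg.Agent.Omega.NTwo (nn aa Std mem_cent cm)
open Cfsg.Agent.Omega.NO3S.Sym.Light (FiveL)
open Cfsg.Agent.Omega.NO3S.MFive (Fr5 FailHyp Ind X N W V NB CC nc)
open Cfsg.Agent.Omega.NO3S.MFive.Inst (zv)

universe u

variable {G : Type u} [Group G]

/-- `0 → 1`, `1 → 3`, `2 → 4`, `3 → 0`, `4 → 2` -/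
def sf : Equiv.Perm (Fin 5) where
  toFun := ![1, 3, 4, 0, 2]
  invFun := ![3, 0, 4, 1, 2]
  left_inv := by decide
  right_inv := by decide

/-- `z 0 = p 0`, `z 1 = p 2`, `z 2 = p 3`, `z 3 = p 4`, `z 4 = p 1` -/
def zf (p : Fin 5 → G) : Fin 5 → G := zv p ∘ sf

theorem zf0 (p : Fin 5 → G) : zf p 0 = p 0 := rfl
theorem zf1 (p : Fin 5 → G) : zf p 1 = p 2 := rfl
theorem zf2 (p : Fin 5 → G) : zf p 2 = p 3 := rfl
theorem zf3 (p : Fin 5 → G) : zf p 3 = p 4 := rfl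
theorem zf4 (p : Fin 5 → G) : zf p 4 = p 1 := rfl

theorem zf_eq (p : Fin 5 → G) : zf p = ![p 0, p 2, p 3, p 4, p 1] := by
  funext i
  fin_cases i <;> rfl

theorem range_zf (p : Fin 5 → G) : Set.range (zf p) = Set.range p := by
  rw [zf, NO3S.LN.range_comp, NO3S.MFive.Inst.range_zv]

theorem CC04 (p : Fin 5 → G) : CC (zf p) 0 4 = cn p := rfl

theorem CC12 (p : Fin 5 → G) : CC (zf p) 1 2 = ca p := rfl

theorem DD_eq (p : Fin 5 → G) : NO3S.MFive.DD (zf p) = dd p := rfl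

variable [Finite G] {S : Sylow 2 G} {P : Subgroup G} {p : Fin 5 → G}

/-- **`Fr5`** for the letters `zv p`. -/
theorem fr5 (hML : ML.Final.MLK.{u, u}) (h : LF S P p) (hX : ¬ X (zv p) 1 2 ≤ ll S P) :
    Fr5 (ll S P) (NO3S.MFive.Inst.TT (S : Subgroup G) p) (zv p) :=
  (NO3S.MFive.Inst.pre h.toFiveL hML h.zq hX).fr5 hX

/-- **`Fr5`** for the letters `zf p`. -/
theorem exists_fr5 (hML : ML.Final.MLK.{u, u}) (h : LF S P p) (hX : ¬ X (zv p) 1 2 ≤ ll S P) :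
    ∃ T : Subgroup G, Fr5 (ll S P) T (zf p) := by
  obtain ⟨g, hg, h1⟩ := NO3S.MFive.Inst.full_L h.toFiveL sf
  exact ⟨_, NO3S.LN.fr5_perm (fr5 hML h hX) ⟨hg, h1⟩⟩

/-- `⟨a^C_G(n)⟩ ≤ ⟨V^C_G(n)⟩` -/
theorem NB_le (h : FiveL S P p) : NB (zf p) 0 4 1 2 ≤ NO3S.Sym.Light.DD (zl (S : Subgroup G) P) (nn p) := by
  refine NO3S.MFive.nc_le ?_ NO3S.Sym.Light.cent_le_normalizer_DD
  exact zpowers_le.2 (NO3S.LightB.a_mem_DD h)

/-- **The instance of `FailHyp`.** -/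
theorem failHyp (h : LF S P p) {T : Subgroup G} (hF : Fr5 (ll S P) T (zf p))
    (jV : ∀ A ∈ AA (o2 (dd p)), A ≤ centralizer (Set.range p))
    (fail : ∀ A ∈ AA (o2 (dd p)), A ≤ centralizer (N (ll S P) (zf p) 0 4 : Set G) →
      A ≤ centralizer (NB (zf p) 0 4 1 2 : Set G)) :
    FailHyp (ll S P) T (Std.T (S : Subgroup G) p) (zf p) where
  fr := hF
  sylB := NO3S.LightB.syl h.toFiveL
  BC := NO3S.LightB.T_le_Ca h.toFive
  p2 := by
    have h1 := NO3S.LightB.DD_el h.toFiveL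
    have h2 : IsPGroup 2 (NO3S.Sym.Light.DD (zl (S : Subgroup G) P) (nn p)) := fun x =>
      ⟨1, Subtype.ext (by rw [pow_one]; exact h1.2 x x.2)⟩
    exact h2.to_le (NB_le h.toFiveL)
  jV := by rw [range_zf]; exact jV
  fail := fail

end Cfsg.Agent.Omega.LFive
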