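import Cfsg.Agent.Omega.LFive.Frame
import Cfsg.Agent.Omega.Node.CaseLPEnds

/-!
# LightL (E), `n = 5`: the common frame `LF` over the case (L) (`SymL .. 1 2`)
-/

set_option autoImplicit false
set_option linter.unusedSectionVars false

namespace Cfsg.Agent.Omega.LFive

open Subgroup Cfsg Cfsg.Agent.ZN Cfsg.Agent.Omega.MinPar Cfsg.Agent.Omega.Frame
open Cfsg.Agent.MinSimple.MinParabolic (IsMinPar)
open Cfsg.Agent.Omega.Node.MultiOf (NLoc)
open Cfsg.Agent.Omega.Node.MulX (SymL)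
open Cfsg.Agent.Omega.NTwo (nn aa Std mem_cent cm)
open Cfsg.Agent.Omega.NO3S.Sym.Light (FiveL)
open scoped Pointwise

universe u

variable {G : Type u} [Group G] [Finite G] {S : Sylow 2 G} {P B ZJ : Subgroup G} {ι : Type}
  {L W Z C A : ι → Subgroup G} {p : Fin 5 → G}

/-- **The common frame from the case (L).** -/
theorem lf_of_symL (hM : SymL S P B ZJ L W Z C A 1 2) (hN : NLoc (centralizer (ZJ : Set G) ⊔ ⨆ i, L i))
    (h : FiveL S P p) (hB : B = Std.T (S : Subgroup G) p) (hZ : centralizer (ZJ : Set G) ≤ dd p)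
    (hL : ∀ i, L i ≤ ll S P ⊓ cn p ∨ L i ≤ ll S P ⊓ ca p)
    (hU : ∀ R : Subgroup G, IsMinPar (Std.T (S : Subgroup G) p) R → R ≤ cn p → ¬ R ≤ ca p → R ≤ ll S P) :
    LF S P p where
  toFiveL := h
  zq := hM.cl.zc_eq
  uni := hU
  nT := hB ▸ hM.norm_le
  nloc := by
    refine hN.mono (sup_le (hZ.trans (le_sup_left.trans le_sup_left)) (iSup_le fun i => ?_))
    rcases hL i with h1 | h1
    · exact h1.trans (le_sup_right.trans le_sup_left)
    · exact h1.trans le_sup_right

end Cfsg.Agent.Omega.LFive
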