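import Cfsg.Agent.Omega.LFive.Frame
import Cfsg.Agent.Omega.NO3S.JZ.Grp
import Cfsg.Agent.Omega.NO3S.JZ.Blk
import Cfsg.Agent.Omega.NO3S.Sym.FieldEnd
import Cfsg.Agent.Omega.NO3S.LightB.Facts
import Cfsg.Agent.Omega.FOne.Rep

/-!
# THEOREM JZ (helper582, bb OMEGA #26032): the end over `LF`

* `card_V` : `|V| = 16`;
* `base` : `Base H y` for `H` = the image of `C_G(z)` on `U`, if `N₀` centralises `U`;
* `false_of_tv` : the image of `O₂(D)` contains no transvection of `U / z` with swapped centre.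
-/

set_option autoImplicit false
set_option linter.unusedSectionVars false

namespace Cfsg.Agent.Omega.LFive.JUQ

open Subgroup Cfsg Cfsg.Agent.ZN Cfsg.Agent.Omega.MinPar Cfsg.Agent.Omega.Frame
open Cfsg.Agent.ZN.ChoiceSit (Syl)
open Cfsg.Agent.ZN.ChoiceBase (cj mem_cj card_cj mem_normalizer_iff_cj)
open Cfsg.Agent.Omega.NTwo (nn aa Std Fv mem_cent cm)
open Cfsg.Agent.Omega.NO3S.Sym.Light (FiveL)
open Cfsg.Agent.Omega.NO3S.JZ (GF N0 mem_N0 C_le_N0 nm cz)
open Cfsg.Agent.Omega.FOne.Rep (Rp)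
open Cfsg.Agent.Omega.FOne.Tvw (Base IsTv)
open Cfsg.Agent.MinSimple.VModule (o2_isPGroup o2_le le_normalizer_o2 o2_le_of_sylow)

universe u

variable {G : Type u} [Group G]

/-- `|V| = 16` -/
theorem card_V [Finite G] {S P : Subgroup G} {p : Fin 5 → G} (h : Std S P p) : Nat.card (closure (Set.range p)) = 16 := by
  classical
  have hp : ∀ i, p i ∈ closure (Set.range p) := fun i => subset_closure (Set.mem_range_self i)
  have h1 := NO3S.Sym.FieldEnd.card_V_ge h
  have h2 : Nat.card (closure (Set.range p)) ≤ 30 := by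
    let f : (Fin 5 × Fin 5) ⊕ Fin 5 → closure (Set.range p) := fun t => match t with
      | .inl ij => ⟨p ij.1 * p ij.2, mul_mem (hp _) (hp _)⟩
      | .inr i => ⟨p i, hp i⟩
    have hf : Function.Surjective f := by
      rintro ⟨v, hv⟩
      rcases h.mem_closure hv with e | ⟨i, e⟩ | ⟨i, j, -, e⟩
      · exact ⟨.inl (0, 0), Subtype.ext ((h.sq 0).trans e.symm)⟩
      · exact ⟨.inr i, Subtype.ext e.symm⟩
      · exact ⟨.inl (i, j), Subtype.ext e.symm⟩
    have h3 := Nat.card_le_card_of_surjective f hf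
    simpa using h3
  have h3 : IsPGroup 2 (closure (Set.range p)) := by
    intro x
    refine ⟨1, Subtype.ext ?_⟩
    have hx := x.2
    rw [pow_one, coe_pow, coe_one, pow_two]
    rcases h.mem_closure hx with e | ⟨i, e⟩ | ⟨i, j, -, e⟩
    · rw [e, one_mul]
    · rw [e, h.sq]
    · rw [e]
      calc p i * p j * (p i * p j) = p i * p j * (p j * p i) := by rw [h.comm i j]
        _ = p i * (p j * p j) * p i := by group
        _ = 1 := by rw [h.sq, mul_one, h.sq]
  obtain ⟨k, hk⟩ := (IsPGroup.iff_card (p := 2)).1 h3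
  rw [hk] at h1 h2 ⊢
  have h4 : 3 < k := by
    by_contra hc
    push Not at hc
    have := Nat.pow_le_pow_right (n := 2) (by norm_num) hc
    omega
  have h5 : k < 5 := by
    by_contra hc
    push Not at hc
    have := Nat.pow_le_pow_right (n := 2) (by norm_num) hc
    omega
  have h6 : k = 4 := by omega
  rw [h6]
  norm_num

variable {Wt : Type u} [AddCommGroup Wt] [Module (ZMod 2) Wt]

theorem mem_range {E C : Subgroup G} (r : Rp E Wt) (hC : C ≤ normalizer (E : Set G)) {φ : Wt ≃ₗ[ZMod 2] Wt} :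
    φ ∈ (r.rho C hC).range ↔ ∃ g ∈ C, ∀ w, r.e (φ w) = g * r.e w * g⁻¹ := by
  rw [← r.im_self hC, r.mem_im hC le_rfl]

variable [Finite G]

/-- **`Base H y`** -/
theorem base {z a : G} {S V F U W : Subgroup G} (h : GF z a S V F U W) (r : Rp U Wt) {y : Wt} (hy : r.e y = z)
    (z1 : z ≠ 1) (hN : N0 z W ≤ centralizer (U : Set G)) :
    Base (r.rho (centralizer ({z} : Set G)) h.CU).range y where
  y0 := by
    rintro rfl
    rw [r.zero] at hy
    exact z1 hy.symm
  fix := by
    intro φ hφ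
    obtain ⟨g, hg, e⟩ := (mem_range r h.CU).1 hφ
    apply r.inj
    rw [e, hy, cz.1 hg, mul_inv_cancel_right]
  faith := by
    intro φ hφ h1
    obtain ⟨g, hg, e⟩ := (mem_range r h.CU).1 hφ
    have h2 : g ∈ centralizer (U : Set G) := by
      refine hN ⟨hg, fun w hw => ?_⟩
      obtain ⟨w, rfl⟩ := (r.rng w).1 (h.WU hw)
      rw [← e w, r.inv]
      rcases h1 w with e1 | e1
      · rw [e1, r.sq]; exact one_mem _
      · rw [e1, r.add, hy]
        have : r.e w * z * r.e w = z * (r.e w * r.e w) := by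
          rw [← mul_assoc, h.Uc _ (r.mem w) _ h.zU]
        rw [this, r.sq, mul_one]
        exact mem_zpowers z
    ext w
    apply r.inj
    rw [e w]
    change _ = r.e w
    rw [← mem_centralizer_iff.1 h2 _ (r.mem w), mul_inv_cancel_right]
  core := by
    intro N hNH hn hp
    set ρ := r.rho (centralizer ({z} : Set G)) h.CU with hρ
    let M : Subgroup G := (N.comap ρ).map (centralizer ({z} : Set G)).subtype
    have hM : M ≤ centralizer ({z} : Set G) := map_subtype_le _
    have hmem : ∀ c : centralizer ({z} : Set G), (c : G) ∈ M ↔ ρ c ∈ N := by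
      intro c
      constructor
      · rintro ⟨d, hd, e⟩
        have : d = c := Subtype.ext e
        rw [← this]; exact hd
      · intro hc; exact ⟨c, hc, rfl⟩
    have hnorm : centralizer ({z} : Set G) ≤ normalizer (M : Set G) := by
      have key : ∀ c ∈ centralizer ({z} : Set G), ∀ m ∈ M, c * m * c⁻¹ ∈ M := by
        intro c hc m hm
        have h1 := (hmem ⟨m, hM hm⟩).1 hm
        have h2 : ρ (⟨c, hc⟩ * ⟨m, hM hm⟩ * ⟨c, hc⟩⁻¹) ∈ N := by
          rw [map_mul, map_mul, map_inv]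
          exact hn _ ⟨_, rfl⟩ _ h1
        exact (hmem _).2 h2
      intro c hc
      rw [mem_normalizer_iff]
      intro m
      refine ⟨key c hc m, fun hm => ?_⟩
      have h1 := key c⁻¹ (inv_mem hc) _ hm
      have e : c⁻¹ * (c * m * c⁻¹) * c⁻¹⁻¹ = m := by group
      rwa [e] at h1
    have h2 : ∀ x ∈ M, ∃ n : ℕ, x ^ 2 ^ n ∈ N0 z W := by
      intro x hx
      obtain ⟨n, hn⟩ := hp ⟨ρ ⟨x, hM hx⟩, (hmem ⟨x, hM hx⟩).1 hx⟩
      refine ⟨n, pow_mem (hM hx) _, fun w hw => ?_⟩
      have h3 : ρ (⟨x, hM hx⟩ ^ 2 ^ n) = 1 := by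
        rw [map_pow]
        exact congrArg Subtype.val hn
      have h4 := (r.rho_eq_one_iff h.CU _).1 h3
      have h5 : x ^ 2 ^ n * w = w * x ^ 2 ^ n := (mem_centralizer_iff.1 h4 w (h.WU hw)).symm
      rw [h5, mul_inv_cancel_right, mul_inv_cancel]
      exact one_mem _
    have h4 := (h.core hM hnorm h2).trans hN
    rw [eq_bot_iff]
    intro φ hφ
    obtain ⟨c, rfl⟩ := hNH hφ
    rw [mem_bot]
    exact (r.rho_eq_one_iff h.CU c).2 (h4 ((hmem c).2 hφ))

/-- **`Base H y` on `W`** -/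
theorem base_W {z a : G} {S V F U W : Subgroup G} (h : GF z a S V F U W) (r : Rp W Wt) {y : Wt} (hy : r.e y = z)
    (z1 : z ≠ 1) (hN : N0 z W ≤ centralizer (U : Set G)) :
    Base (r.rho (centralizer ({z} : Set G)) h.CW).range y where
  y0 := by
    rintro rfl
    rw [r.zero] at hy
    exact z1 hy.symm
  fix := by
    intro φ hφ
    obtain ⟨g, hg, e⟩ := (mem_range r h.CW).1 hφ
    apply r.inj
    rw [e, hy, cz.1 hg, mul_inv_cancel_right]
  faith := by
    intro φ hφ h1
    obtain ⟨g, hg, e⟩ := (mem_range r h.CW).1 hφ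
    have h2 : g ∈ centralizer (U : Set G) := by
      refine hN ⟨hg, fun w hw => ?_⟩
      obtain ⟨w, rfl⟩ := (r.rng w).1 hw
      rw [← e w, r.inv]
      rcases h1 w with e1 | e1
      · rw [e1, r.sq]; exact one_mem _
      · rw [e1, r.add, hy]
        have : r.e w * z * r.e w = z * (r.e w * r.e w) := by
          rw [← mul_assoc, h.Uc _ (h.WU (r.mem w)) _ h.zU]
        rw [this, r.sq, mul_one]
        exact mem_zpowers z
    ext w
    apply r.inj
    rw [e w]
    change _ = r.e w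
    rw [← mem_centralizer_iff.1 h2 _ (h.WU (r.mem w)), mul_inv_cancel_right]
  core := by
    intro N hNH hn hp
    set ρ := r.rho (centralizer ({z} : Set G)) h.CW with hρ
    let M : Subgroup G := (N.comap ρ).map (centralizer ({z} : Set G)).subtype
    have hM : M ≤ centralizer ({z} : Set G) := map_subtype_le _
    have hmem : ∀ c : centralizer ({z} : Set G), (c : G) ∈ M ↔ ρ c ∈ N := by
      intro c
      constructor
      · rintro ⟨d, hd, e⟩
        have : d = c := Subtype.ext e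
        rw [← this]; exact hd
      · intro hc; exact ⟨c, hc, rfl⟩
    have hnorm : centralizer ({z} : Set G) ≤ normalizer (M : Set G) := by
      have key : ∀ c ∈ centralizer ({z} : Set G), ∀ m ∈ M, c * m * c⁻¹ ∈ M := by
        intro c hc m hm
        have h1 := (hmem ⟨m, hM hm⟩).1 hm
        have h2 : ρ (⟨c, hc⟩ * ⟨m, hM hm⟩ * ⟨c, hc⟩⁻¹) ∈ N := by
          rw [map_mul, map_mul, map_inv]
          exact hn _ ⟨_, rfl⟩ _ h1
        exact (hmem _).2 h2
      intro c hc
      rw [mem_normalizer_iff]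
      intro m
      refine ⟨key c hc m, fun hm => ?_⟩
      have h1 := key c⁻¹ (inv_mem hc) _ hm
      have e : c⁻¹ * (c * m * c⁻¹) * c⁻¹⁻¹ = m := by group
      rwa [e] at h1
    have h2 : ∀ x ∈ M, ∃ n : ℕ, x ^ 2 ^ n ∈ N0 z W := by
      intro x hx
      obtain ⟨n, hn⟩ := hp ⟨ρ ⟨x, hM hx⟩, (hmem ⟨x, hM hx⟩).1 hx⟩
      refine ⟨n, pow_mem (hM hx) _, fun w hw => ?_⟩
      have h3 : ρ (⟨x, hM hx⟩ ^ 2 ^ n) = 1 := by
        rw [map_pow]
        exact congrArg Subtype.val hn
      have h4 := (r.rho_eq_one_iff h.CW _).1 h3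
      have h5 : x ^ 2 ^ n * w = w * x ^ 2 ^ n := (mem_centralizer_iff.1 h4 w hw).symm
      rw [h5, mul_inv_cancel_right, mul_inv_cancel]
      exact one_mem _
    have h4 := (h.core hM hnorm h2).trans hN
    rw [eq_bot_iff]
    intro φ hφ
    obtain ⟨c, rfl⟩ := hNH hφ
    rw [mem_bot]
    exact (r.rho_eq_one_iff h.CW c).2 (centralizer_le h.WU (h4 ((hmem c).2 hφ)))

end Cfsg.Agent.Omega.LFive.JUQ
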