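import Cfsg.Agent.Omega.LFive.JZExact
import Cfsg.Agent.Omega.NO3S.JZ.Tv
import Cfsg.Agent.Omega.NO3S.JZ.Grp

/-!
# THEOREM JZ (helper582 #26032), (1) end: `PSin` on `W_z` over 337's frame `LF`

* **`exists_tv_lf`** : an `A ∈ AA(O₂(D))` which is exact on `W_z` and moves it gives an element of `O₂(D)` which is a
  transvection of `U_z / z` with swapped centre.
-/

set_option autoImplicit false
set_option linter.unusedSectionVars false

namespace Cfsg.Agent.Omega.LFive.JUTv

open Subgroup Cfsg Cfsg.Agent.Omega.MinPar Cfsg.Agent.Omega.Frame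
open Cfsg.Agent.ZN (o2 jj zc zl mem_zc normalizer_le_normalizer_zc)
open Cfsg.Agent.ZN.ChoiceBase (AA mem_AA_iff)
open Cfsg.Agent.MinSimple.VModule (o2_isPGroup o2_le le_normalizer_o2)
open Cfsg.Agent.Omega.ML.GMod (normalizer_le_normalizer_o2)
open Cfsg.Agent.Omega.NTwo (nn aa Std mem_cent cm)
open Cfsg.Agent.Omega.NO3S.TwoB (V_le_of Z_le le_norm_V)
open Cfsg.Agent.Omega.NO3S.JZ (GF N0)
open Cfsg.Agent.Omega.NO3S.JZ.TvEnd
open Cfsg.Agent.Omega.FOne.Tvw (Base IsTv)
open Cfsg.Agent.Omega.FOne.Rep (Rp PSin known_range)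
open Cfsg.Agent.Omega.LFive.JZ (Wz Uz Ex)

universe u

variable {G : Type u} [Group G] [Finite G] {S : Sylow 2 G} {P : Subgroup G} {p : Fin 5 → G}
  {X : Type u} [AddCommGroup X] [Module (ZMod 2) X] {Y : Type u} [AddCommGroup Y] [Module (ZMod 2) Y]

/-- `C_G(z) ≠ G` -/
theorem cent_ne_top (h : LF S P p) : centralizer ({p 4} : Set G) ≠ ⊤ := by
  intro e
  have hs := h.ctx.simple
  have h1 : p 4 ∈ center G := by
    rw [mem_center_iff]
    intro g
    have : g ∈ centralizer ({p 4} : Set G) := by rw [e]; exact mem_top g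
    exact mem_centralizer_singleton_iff.mp this
  rcases hs.eq_bot_or_eq_top_of_normal (center G) inferInstance with h2 | h2
  · rw [h2, mem_bot] at h1
    exact h.std.ne 4 h1
  · apply h.ctx.nonComm
    refine ⟨⟨fun a b => ?_⟩⟩
    have : a ∈ center G := by rw [h2]; exact mem_top a
    exact (mem_center_iff.mp this b).symm

/-- `Ω₁(Z(T)) = {1, n, a, z}` has order 4 -/
theorem card_zcT (h : LF S P p) : Nat.card ↥(zc (Std.T (S : Subgroup G) p)) = 4 := by
  have e : ((zc (Std.T (S : Subgroup G) p) : Subgroup G) : Set G) = ({1, nn p, aa p, p 4} : Set G) := by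
    ext x
    rw [SetLike.mem_coe, h.std.mem_zcT]
    simp
  have h1 : Nat.card ↥(zc (Std.T (S : Subgroup G) p)) = Set.ncard ((zc (Std.T (S : Subgroup G) p) : Subgroup G) : Set G) :=
    rfl
  rw [h1, e, Set.ncard_insert_of_notMem, Set.ncard_insert_of_notMem, Set.ncard_pair h.std.a_ne_four]
  · simp only [Set.mem_insert_iff, Set.mem_singleton_iff, not_or]
    exact ⟨h.std.n_ne_a, h.std.n_ne_four⟩
  · simp only [Set.mem_insert_iff, Set.mem_singleton_iff, not_or]
    exact ⟨h.std.n_ne_one.symm, h.std.a_ne_one.symm, (h.std.ne 4).symm⟩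

/-- **the transvection on `U_z / z`** -/
theorem exists_tv_lf (h : LF S P p) {F : Subgroup G}
    (g : GF (p 4) (nn p) (S : Subgroup G) (zl (S : Subgroup G) P) F (Uz S P p) (Wz p)) (hPS : PSin.{u})
    (r : Rp (Wz p) X) (r' : Rp (Uz S P p) Y) {y : X} {y' : Y} (hy : r.e y = p 4) (hy' : r'.e y' = p 4)
    (b : Base (r.rho (centralizer ({p 4} : Set G)) g.CW).range y) {A : Subgroup G} (hA : A ∈ AA (o2 (dd p)))
    (Amv : ¬ A ≤ centralizer (Wz p : Set G)) (ex : Ex S P p A) :
    ∃ x ∈ r'.im g.CU (o2 (dd p)), IsTv (r'.rho (centralizer ({p 4} : Set G)) g.CU).range y' x := by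
  have hzc : ∀ x ∈ zc (Std.T (S : Subgroup G) p), x = 1 ∨ x = nn p ∨ x = aa p ∨ x = p 4 := fun x hx =>
    h.std.mem_zcT.1 hx
  have n_zc : nn p ∈ zc (Std.T (S : Subgroup G) p) := h.std.mem_zcT.2 (Or.inr (Or.inl rfl))
  have a_zc : aa p ∈ zc (Std.T (S : Subgroup G) p) := h.std.mem_zcT.2 (Or.inr (Or.inr (Or.inl rfl)))
  have z_zc : p 4 ∈ zc (Std.T (S : Subgroup G) p) := h.std.mem_zcT.2 (Or.inr (Or.inr (Or.inr rfl)))
  refine exists_tv (Lz := zc (Std.T (S : Subgroup G) p)) (T := (S : Subgroup G)) (A := A) hPS g.CW g.CU g.WU r r' hy hy'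
    (known_range h.ctx.kproper (cent_ne_top h) _) b g.SC g.S2 g.syl ?_ ?_ (card_zcT h) z_zc ?_ ?_ ?_
    ((o2_le _).trans (JZ.dd_le h)) (o2_isPGroup _) ?_ ?_ hA.2.1 hA.1 Amv ?_ ex.split
  · -- fixed points
    intro w hw hf
    refine g.fixU w (g.WU hw) fun s hs => ?_
    exact mul_inv_eq_iff_eq_mul.1 (hf s hs)
  · intro x hx
    rcases hzc x hx with rfl | rfl | rfl | rfl
    · exact one_mem _
    · exact JZ.n_mem h
    · exact JZ.a_mem h
    · exact JZ.z_mem h
  · exact h.std.le_norm_T.trans (normalizer_le_normalizer_zc _)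
  · intro v hv v1 vz
    obtain ⟨s, hs, hs1, hs2, -⟩ := NO3S.LightB.swap h.toFive
    rcases hzc v hv with rfl | rfl | rfl | rfl
    · exact absurd rfl v1
    · exact ⟨s, hs, by rw [hs1, h.std.a_eq]⟩
    · exact ⟨s, hs, by rw [hs2, h.std.a_eq, mul_assoc, h.std.sq, mul_one]⟩
    · exact absurd rfl vz
  · intro K hK
    -- the elements all of whose conjugates are in `K`
    let K' : Subgroup G := ⨅ c : centralizer ({p 4} : Set G), ZN.ChoiceBase.cj (c : G) K
    have hK' : ∀ x, x ∈ K' ↔ ∀ c ∈ centralizer ({p 4} : Set G), c * x * c⁻¹ ∈ K := by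
      intro x
      rw [mem_iInf]
      constructor
      · intro h1 c hc
        have h2 := h1 ⟨c⁻¹, inv_mem hc⟩
        rw [ZN.ChoiceBase.mem_cj, inv_inv] at h2
        exact h2
      · rintro h1 ⟨c, hc⟩
        rw [ZN.ChoiceBase.mem_cj]
        have h2 := h1 c⁻¹ (inv_mem hc)
        rwa [inv_inv] at h2
    have h1 : Wz p ≤ K' := by
      refine V_le_of ?_ ?_
      · rw [zpowers_le, hK']
        exact fun c hc => hK c hc _ n_zc
      · have key : ∀ c ∈ centralizer ({p 4} : Set G), ∀ x ∈ K', c * x * c⁻¹ ∈ K' := by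
          intro c hc x hx
          rw [hK'] at hx ⊢
          intro d hd
          have h2 := hx (d * c) (mul_mem hd hc)
          have e : d * c * x * (d * c)⁻¹ = d * (c * x * c⁻¹) * d⁻¹ := by group
          rwa [e] at h2
        intro c hc
        rw [mem_normalizer_iff]
        intro x
        refine ⟨fun hx => key c hc x hx, fun hx => ?_⟩
        have h2 := key c⁻¹ (inv_mem hc) _ hx
        have e : c⁻¹ * (c * x * c⁻¹) * c⁻¹⁻¹ = x := by group
        rwa [e] at h2
    intro x hx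
    have h2 := (hK' x).1 (h1 hx) 1 (one_mem _)
    rwa [one_mul, inv_one, mul_one] at h2
  · -- `O ≤ C(n, a, z)`
    intro x hx
    have hx1 := (o2_le _) hx
    have e1 : x * nn p * x⁻¹ = nn p := mem_cent.1 hx1.1
    have e2 : x * aa p * x⁻¹ = aa p := mem_cent.1 hx1.2
    have e3 : x * p 4 * x⁻¹ = p 4 := mem_cent.1 (JZ.dd_le h hx1)
    rw [mem_centralizer_iff]
    intro v hv
    rcases hzc v hv with rfl | rfl | rfl | rfl
    · rw [one_mul, mul_one]
    · exact (mul_inv_eq_iff_eq_mul.1 e1).symm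
    · exact (mul_inv_eq_iff_eq_mul.1 e2).symm
    · exact (mul_inv_eq_iff_eq_mul.1 e3).symm
  · -- `N_C(⟨n, a⟩)` normalises `O`
    rintro c ⟨hc, hcn⟩
    refine normalizer_le_normalizer_o2 _ (JZ.norm_dd h hc ?_)
    have h1 : c * nn p * c⁻¹ ∈ zc (Std.T (S : Subgroup G) p) := (mem_normalizer_iff.1 hcn _).1 n_zc
    have hc4 : c * p 4 * c⁻¹ = p 4 := mem_cent.1 hc
    have hni : (nn p)⁻¹ = nn p := inv_eq_of_mul_eq_one_left h.std.nsq
    rcases hzc _ h1 with e | e | e | e
    · exact absurd (conj_eq_one_iff.1 e) h.std.n_ne_one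
    · rw [e, mul_inv_cancel]
      exact one_mem _
    · rw [e, hni, h.std.an]
      exact mem_zpowers _
    · exact absurd (NTwo.conj_inj (e.trans hc4.symm)) h.std.n_ne_four
  · exact ex.exW.ge

end Cfsg.Agent.Omega.LFive.JUTv
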