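import Cfsg.Agent.Omega.NO3S.JZ.Dich
import Cfsg.Agent.Omega.LFive.Frame

/-!
# THEOREM JZ over the common frame `LF`: the dichotomy (2)

`F` = even subsets of `{1..4}` = `closure {p 0 * p 1, p 0 * p 2, p 4}`.

* `LF.dd_eq` : `D = C_G(n, z)`;
* `LF.F_elts`, `LF.card_F`, `LF.pair_mem`, `LF.VF`, `LF.h5`, `LF.irr`, `LF.D_not`;
* **`LF.dich`** : `N₀ ≤ C(U)`, or every `A ≤ O₂(D)` with `[U, A] ≤ W` centralises `U`.
-/

set_option autoImplicit false
set_option linter.unusedSectionVars false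

namespace Cfsg.Agent.Omega.LFive

open Subgroup Cfsg Cfsg.Agent.ZN Cfsg.Agent.Omega.MinPar Cfsg.Agent.Omega.Frame
open Cfsg.Agent.Omega.NTwo (nn aa Std Fv mem_cent cm)
open Cfsg.Agent.Omega.NO3S.Sym.Light (FiveL)
open Cfsg.Agent.Omega.NO3S.JZ (GF N0 nm nm_of cz cz_conj)

universe u

variable {G : Type u} [Group G] [Finite G] {S : Sylow 2 G} {P : Subgroup G} {p : Fin 5 → G}

/-- even subsets of `{1..4}` -/
abbrev Fe (p : Fin 5 → G) : Subgroup G := closure ({p 0 * p 1, p 0 * p 2, p 4} : Set G)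

namespace LF

variable (h : LF S P p)
include h

theorem dd_eq : dd p = centralizer ({nn p} : Set G) ⊓ centralizer ({p 4} : Set G) := by
  have key : ∀ x : G, x ∈ cn p → (x ∈ ca p ↔ x ∈ centralizer ({p 4} : Set G)) := by
    intro x hx
    rw [cz] at hx ⊢
    rw [cz, ← h.std.na]
    constructor
    · intro h1
      calc x * (nn p * aa p) = x * nn p * aa p := by group
        _ = nn p * (x * aa p) := by rw [hx]; group
        _ = nn p * aa p * x := by rw [h1]; group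
    · intro h1
      have h2 : nn p * (x * aa p) = nn p * (aa p * x) := by
        calc nn p * (x * aa p) = nn p * x * aa p := by group
          _ = x * (nn p * aa p) := by rw [← hx]; group
          _ = nn p * (aa p * x) := by rw [h1]; group
      exact mul_left_cancel h2
  ext x
  rw [mem_inf, mem_inf]
  exact and_congr_right (key x)

theorem sq2 (i j : Fin 5) : p i * p j * (p i * p j) = 1 := by
  rw [mul_assoc, ← mul_assoc (p j), h.std.comm j i, mul_assoc, h.std.sq j, mul_one, h.std.sq i]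

theorem e13 : p 0 * p 2 * p 4 = p 1 * p 3 := by
  have h1 := h.std.prod' (Equiv.swap 1 2)
  have e0 : (Equiv.swap 1 2 : Equiv.Perm (Fin 5)) 0 = 0 := by decide
  have e1 : (Equiv.swap 1 2 : Equiv.Perm (Fin 5)) 1 = 2 := by decide
  have e2 : (Equiv.swap 1 2 : Equiv.Perm (Fin 5)) 2 = 1 := by decide
  have e3 : (Equiv.swap 1 2 : Equiv.Perm (Fin 5)) 3 = 3 := by decide
  have e4 : (Equiv.swap 1 2 : Equiv.Perm (Fin 5)) 4 = 4 := by decide
  rw [e0, e1, e2, e3, e4] at h1
  rw [← h1, ← mul_assoc, h.sq2, one_mul]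

theorem e23 : p 0 * p 1 * p 4 = p 2 * p 3 := by
  rw [← h.std.prod, ← mul_assoc, h.sq2, one_mul]

theorem e12 : p 0 * p 1 * (p 0 * p 2) = p 1 * p 2 := by
  rw [h.std.comm 0 1, mul_assoc, ← mul_assoc (p 0), h.std.sq 0, one_mul]

theorem e03 : p 0 * p 1 * (p 0 * p 2 * p 4) = p 0 * p 3 := by
  rw [h.e13, mul_assoc, ← mul_assoc (p 1), h.std.sq 1, one_mul]

theorem zp_cases {x y : G} (hx : x * x = 1) (hy : y ∈ zpowers x) : y = 1 ∨ y = x := by
  obtain ⟨k, rfl⟩ := mem_zpowers_iff.1 hy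
  have hz2 : x ^ (2 : ℤ) = 1 := by
    rw [zpow_ofNat, pow_two]
    exact hx
  rcases Int.even_or_odd' k with ⟨m, rfl | rfl⟩
  · left
    rw [zpow_mul, hz2, one_zpow]
  · right
    rw [zpow_add, zpow_mul, hz2, one_zpow, one_mul, zpow_one]

/-- the eight elements of `F` -/
theorem F_form {x : G} (hx : x ∈ Fe p) :
    ∃ i j k : Bool, x = cond i (p 0 * p 1) 1 * (cond j (p 0 * p 2) 1 * cond k (p 4) 1) := by
  have c : ∀ i j k l : Fin 5, p i * p j * (p k * p l) = p k * p l * (p i * p j) := by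
    intro i j k l
    have h0 : ∀ i j, Commute (p i) (p j) := h.std.comm
    exact (((h0 i k).mul_left (h0 j k)).mul_right ((h0 i l).mul_left (h0 j l))).eq
  have c' : ∀ i j : Fin 5, p i * p j * p 4 = p 4 * (p i * p j) := fun i j => by
    have h0 : ∀ i j, Commute (p i) (p j) := h.std.comm
    exact ((h0 i 4).mul_left (h0 j 4)).eq
  have hbc : zpowers (p 0 * p 2) ≤ normalizer (zpowers (p 4) : Set G) := by
    rw [zpowers_le]
    refine nm_of fun y hy => ?_
    rcases h.zp_cases (h.std.sq 4) hy with rfl | rfl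
    · simp
    · rw [c', mul_inv_cancel_right]
      exact mem_zpowers _
  have habc : zpowers (p 0 * p 1) ≤ normalizer ((zpowers (p 0 * p 2) ⊔ zpowers (p 4) : Subgroup G) : Set G) := by
    rw [zpowers_le]
    refine nm_of fun y hy => ?_
    have hy' : y ∈ ((zpowers (p 0 * p 2) ⊔ zpowers (p 4) : Subgroup G) : Set G) := hy
    rw [coe_mul_of_left_le_normalizer_right _ _ hbc] at hy'
    obtain ⟨s, hs, t, ht, rfl⟩ := hy'
    have h1 : p 0 * p 1 * (s * t) * (p 0 * p 1)⁻¹ = s * t := by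
      rcases h.zp_cases (h.sq2 0 2) hs with rfl | rfl <;> rcases h.zp_cases (h.std.sq 4) ht with rfl | rfl
      · simp
      · rw [one_mul, c', mul_inv_cancel_right]
      · rw [mul_one, c, mul_inv_cancel_right]
      · rw [← mul_assoc, c, mul_assoc (p 0 * p 2), c', ← mul_assoc, mul_inv_cancel_right]
    change p 0 * p 1 * (s * t) * (p 0 * p 1)⁻¹ ∈ _
    rw [h1]
    exact hy
  have hle : Fe p ≤ zpowers (p 0 * p 1) ⊔ (zpowers (p 0 * p 2) ⊔ zpowers (p 4)) := by
    rw [closure_le]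
    rintro x (rfl | rfl | rfl)
    · exact mem_sup_left (mem_zpowers _)
    · exact mem_sup_right (mem_sup_left (mem_zpowers _))
    · exact mem_sup_right (mem_sup_right (mem_zpowers _))
  have hx' : x ∈ ((zpowers (p 0 * p 1) ⊔ (zpowers (p 0 * p 2) ⊔ zpowers (p 4)) : Subgroup G) : Set G) := hle hx
  rw [coe_mul_of_left_le_normalizer_right _ _ habc] at hx'
  obtain ⟨r, hr, y, hy, rfl⟩ := hx'
  rw [coe_mul_of_left_le_normalizer_right _ _ hbc] at hy
  obtain ⟨s, hs, t, ht, rfl⟩ := hy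
  have key : ∀ {x y : G}, x * x = 1 → y ∈ zpowers x → ∃ i : Bool, y = cond i x 1 := by
    intro x y hx hy
    rcases h.zp_cases hx hy with rfl | rfl
    · exact ⟨false, rfl⟩
    · exact ⟨true, rfl⟩
  obtain ⟨i, rfl⟩ := key (h.sq2 0 1) hr
  obtain ⟨j, rfl⟩ := key (h.sq2 0 2) hs
  obtain ⟨k, rfl⟩ := key (h.std.sq 4) ht
  exact ⟨i, j, k, rfl⟩

theorem card_F : Nat.card (Fe p) ≤ 8 := by
  classical
  choose! f g k hf using fun (x : G) (hx : x ∈ Fe p) => h.F_form hx
  have hinj : Function.Injective fun x : Fe p => ((f x, g x, k x) : Bool × Bool × Bool) := by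
    intro x y hxy
    have h1 : f (x : G) = f y := congrArg Prod.fst hxy
    have h2 : g (x : G) = g y := congrArg (fun t => t.2.1) hxy
    have h3 : k (x : G) = k y := congrArg (fun t => t.2.2) hxy
    apply Subtype.ext
    rw [hf x x.2, hf y y.2, h1, h2, h3]
  have h4 := Nat.card_le_card_of_injective _ hinj
  have h5 : Nat.card (Bool × Bool × Bool) = 8 := by
    rw [Nat.card_eq_fintype_card]
    decide
  omega

theorem F_elts {x : G} (hx : x ∈ Fe p) :
    x = 1 ∨ x = p 4 ∨ ∃ i j : Fin 5, i ≠ j ∧ i ≠ 4 ∧ j ≠ 4 ∧ x = p i * p j := by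
  obtain ⟨i, j, k, rfl⟩ := h.F_form hx
  rcases i with _ | _ <;> rcases j with _ | _ <;> rcases k with _ | _
  · left
    simp
  · right; left
    simp
  · exact Or.inr (Or.inr ⟨0, 2, by decide, by decide, by decide, by simp⟩)
  · exact Or.inr (Or.inr ⟨1, 3, by decide, by decide, by decide, by simpa using h.e13⟩)
  · exact Or.inr (Or.inr ⟨0, 1, by decide, by decide, by decide, by simp⟩)
  · exact Or.inr (Or.inr ⟨2, 3, by decide, by decide, by decide, by simpa using h.e23⟩)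
  · exact Or.inr (Or.inr ⟨1, 2, by decide, by decide, by decide, by simpa using h.e12⟩)
  · exact Or.inr (Or.inr ⟨0, 3, by decide, by decide, by decide, h.e03⟩)

theorem z_mem_F : p 4 ∈ Fe p := subset_closure (Or.inr (Or.inr rfl))

theorem pair_mem {i j : Fin 5} (hi : i ≠ 4) (hj : j ≠ 4) : p i * p j ∈ Fe p := by
  have h1 : p 0 * p 1 ∈ Fe p := subset_closure (Or.inl rfl)
  have h2 : p 0 * p 2 ∈ Fe p := subset_closure (Or.inr (Or.inl rfl))
  have h4 : p 4 ∈ Fe p := h.z_mem_F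
  have h3 : p 0 * p 3 ∈ Fe p := by
    rw [← h.e03]
    exact mul_mem h1 (mul_mem h2 h4)
  have key : ∀ i : Fin 5, i ≠ 4 → p 0 * p i ∈ Fe p := by
    intro i hi
    fin_cases i
    · change p 0 * p 0 ∈ Fe p
      rw [h.std.sq]
      exact one_mem _
    · exact h1
    · exact h2
    · exact h3
    · exact absurd rfl hi
  have e : p 0 * p i * (p 0 * p j) = p i * p j := by
    rw [h.std.comm 0 i, mul_assoc, ← mul_assoc (p 0), h.std.sq 0, one_mul]
  rw [← e]
  exact mul_mem (key i hi) (key j hj)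

theorem act4 {g : G} (hg : g ∈ ll S P) (hz : g ∈ centralizer ({p 4} : Set G)) :
    ∃ σ : Equiv.Perm (Fin 5), σ 4 = 4 ∧ ∀ i, g * p i * g⁻¹ = p (σ i) := by
  obtain ⟨σ, hσ⟩ := h.act hg
  refine ⟨σ, ?_, hσ⟩
  have h1 := hσ 4
  rw [cz_conj hz] at h1
  exact (h.std.inj h1).symm

theorem VF {g : G} (hg : g ∈ ll S P) (hz : g ∈ centralizer ({p 4} : Set G)) :
    ∀ v ∈ zl (S : Subgroup G) P, g * v * g⁻¹ * v⁻¹ ∈ Fe p := by
  obtain ⟨σ, hσ4, hσ⟩ := h.act4 hg hz
  have hV := h.gen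
  let X : Subgroup G :=
    { carrier := {v | v ∈ zl (S : Subgroup G) P ∧ g * v * g⁻¹ * v⁻¹ ∈ Fe p}
      mul_mem' := by
        rintro v w ⟨hv, hv'⟩ ⟨hw, hw'⟩
        refine ⟨mul_mem hv hw, ?_⟩
        have e : g * (v * w) * g⁻¹ * (v * w)⁻¹ = g * v * g⁻¹ * (g * w * g⁻¹ * w⁻¹) * v⁻¹ := by group
        have h1 : g * v * g⁻¹ ∈ zl (S : Subgroup G) P := nm hg hv
        have h2 : g * w * g⁻¹ * w⁻¹ ∈ zl (S : Subgroup G) P := mul_mem (nm hg hw) (inv_mem hw)
        rw [e, h.toFive.V_comm h1 h2, mul_assoc]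
        exact mul_mem hw' hv'
      one_mem' := ⟨one_mem _, by simp⟩
      inv_mem' := by
        rintro v ⟨hv, hv'⟩
        have e : v⁻¹ = v := inv_eq_of_mul_eq_one_right (h.toFive.V_sq hv)
        rw [e]
        exact ⟨hv, hv'⟩ }
  have hX : zl (S : Subgroup G) P ≤ X := by
    conv_lhs => rw [hV]
    rw [closure_le]
    rintro v ⟨i, rfl⟩
    refine ⟨h.toFive.p_mem i, ?_⟩
    rw [hσ, h.std.pinv]
    by_cases hi : i = 4
    · rw [hi, hσ4, h.std.sq]
      exact one_mem _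
    · refine h.pair_mem (fun h1 => hi ?_) hi
      exact σ.injective (h1.trans hσ4.symm)
  exact fun v hv => (hX hv).2

theorem h5 {g : G} (hg : g ∈ ll S P) (hz : g ∈ centralizer ({p 4} : Set G))
    (hv : ∀ v ∈ zl (S : Subgroup G) P, g * v * g⁻¹ * v⁻¹ ∈ zpowers (p 4)) :
    g ∈ centralizer (zl (S : Subgroup G) P : Set G) := by
  obtain ⟨σ, -, hσ⟩ := h.act4 hg hz
  have h1 : ∀ i, g * p i * g⁻¹ = p i := by
    intro i
    have h2 := hv _ (h.toFive.p_mem i)
    rw [hσ, h.std.pinv] at h2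
    rw [hσ]
    by_cases hi : σ i = i
    · rw [hi]
    · exfalso
      rcases h.zp_cases (h.std.sq 4) h2 with h3 | h3
      · exact h.std.mul_ne_one hi h3
      · exact h.std.mul_ne hi 4 h3
  have h2 : g ∈ centralizer (Set.range p) := by
    rw [mem_centralizer_iff]
    rintro _ ⟨i, rfl⟩
    exact (mul_inv_eq_iff_eq_mul.1 (h1 i)).symm
  rw [h.gen, Subgroup.centralizer_closure]
  exact h2

omit h in
theorem exists_perm (i j : Fin 5) (hij : i ≠ j) (hi : i ≠ 4) (hj : j ≠ 4) (k : Fin 5) (hk : k = 1 ∨ k = 2) :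
    ∃ σ : Equiv.Perm (Fin 5), σ i = 0 ∧ σ j = k ∧ σ 4 = 4 := by
  revert i j k
  decide +kernel

theorem irr {X : Subgroup G} (hX : X ≤ Fe p) (hz : p 4 ∈ X)
    (hn : ll S P ⊓ centralizer ({p 4} : Set G) ≤ normalizer (X : Set G)) : X ≤ zpowers (p 4) ∨ Fe p ≤ X := by
  by_cases hc : X ≤ zpowers (p 4)
  · exact Or.inl hc
  right
  obtain ⟨x, hx, hx'⟩ := Set.not_subset.1 hc
  obtain ⟨i, j, hij, hi, hj, rfl⟩ : ∃ i j : Fin 5, i ≠ j ∧ i ≠ 4 ∧ j ≠ 4 ∧ x = p i * p j := by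
    rcases h.F_elts (hX hx) with rfl | rfl | h1
    · exact absurd (one_mem _) hx'
    · exact absurd (mem_zpowers _) hx'
    · exact h1
  have key : ∀ k : Fin 5, k = 1 ∨ k = 2 → p 0 * p k ∈ X := by
    intro k hk
    obtain ⟨σ, h0, h1, h4⟩ := exists_perm i j hij hi hj k hk
    obtain ⟨g, hg, hgσ⟩ := h.fullL σ
    have hgz : g ∈ centralizer ({p 4} : Set G) := by
      rw [mem_cent, hgσ, h4]
    have h2 := nm (hn ⟨hg, hgz⟩) hx
    rwa [cm, hgσ, hgσ, h0, h1] at h2
  rw [closure_le]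
  rintro x (rfl | rfl | rfl)
  · exact key 1 (Or.inl rfl)
  · exact key 2 (Or.inr rfl)
  · exact hz

theorem two_V : IsPGroup 2 (zl (S : Subgroup G) P) := S.isPGroup'.to_le h.toFive.V_le

theorem D_not {F U W : Subgroup G} (g : GF (p 4) (nn p) (S : Subgroup G) (zl (S : Subgroup G) P) F U W) :
    ¬ centralizer ({nn p} : Set G) ⊓ centralizer ({p 4} : Set G) ≤ normalizer (F : Set G) := by
  intro h1
  refine h.false_of_local' (R := zl (S : Subgroup G) P) h.two_V ?_ ?_ le_rfl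
  · intro h2
    have h3 := h.toFive.p_mem 4
    rw [h2, mem_bot] at h3
    exact h.std.ne 4 h3
  · rw [h.dd_eq]
    exact (le_inf h1 inf_le_right).trans g.norm_F

/-- **THE DICHOTOMY (2) of THEOREM JZ over `LF`** -/
theorem dich {F U W : Subgroup G} (g : GF (p 4) (nn p) (S : Subgroup G) (zl (S : Subgroup G) P) F U W)
    (hF : F = Fe p) (hq : o2 (centralizer ({p 4} : Set G)) ≤ centralizer (zl (S : Subgroup G) P : Set G)) :
    N0 (p 4) W ≤ centralizer (U : Set G) ∨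
      ∀ A : Subgroup G, A ≤ o2 (dd p) → (∀ b ∈ A, ∀ u ∈ U, b * u * b⁻¹ * u⁻¹ ∈ W) → A ≤ centralizer (U : Set G) := by
  rw [h.dd_eq]
  have hD := h.D_not g
  subst hF
  exact g.dich hq h.card_F (h.std.ne 4) h.std.n_ne_one h.std.n_ne_four hD (fun _ hg _ hz => h.VF hg hz)
    (fun _ hg hz => h.h5 hg hz) fun _ hX hz hn => h.irr hX hz hn

end LF

end Cfsg.Agent.Omega.LFive
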