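import Cfsg.Agent.Omega.LFive.EndJU

/-!
# THEOREM JZ (helper582 #26032), (1): exactness on `W̃`, `W`, `U_z`

`z = p 4`, `C_z = C_G(z)`, `U = U_z = ⟨V^C_z⟩`, `W = ⟨n^C_z⟩`, `D = C_G(n, a) ≤ C_z`, `O = O₂(D)`.

* `kz C W z` : the elements of `C` which centralise `W` modulo `z`; `cz W B z` : the elements of `W` centralised by `B`
  modulo `z`;
* `no` : `|B : C_B(W/z)| ≤ |W : C_W(B mod z)|` for elementary abelian `B ≤ O`;
* `O_inf` : `O ∩ C(W/z) ≤ O₂(C_z)`;
* **`Ex`** : the exactness of `A`; **`exact`** : `A ∈ AA(O)`, `O₂(C_z) ≤ C(V)` ⟹ `Ex`.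
-/

set_option autoImplicit false
set_option linter.unusedSectionVars false

namespace Cfsg.Agent.Omega.LFive.JZ

open Subgroup Cfsg Cfsg.Agent.Omega.MinPar Cfsg.Agent.Omega.Frame
open Cfsg.Agent.ZN (o2 jj zc zl mem_zc)
open Cfsg.Agent.ZN.ChoiceBase (AA mm_eq mem_AA_iff jj_eq jj_le le_jj jj_cj cj_inf cj_centralizer cj cj_mono cj_cj
  mem_cj cj_le_iff cj_inv_cj cj_cj_inv cj_mem_AA mem_normalizer_iff_cj cj_eq_of_mem_normalizer AA_nonempty)
open Cfsg.Agent.MinSimple.VModule (o2_isPGroup o2_le le_normalizer_o2 le_o2)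
open Cfsg.Agent.Omega.ML.GMod (normalizer_le_normalizer_o2 nc ri_ne ri_mono)
open Cfsg.Agent.Omega.EK3.Rank
open Cfsg.Agent.Omega.NTwo (nn aa Std mem_cent cm)
open Cfsg.Agent.Omega.NO3S.Sym.Light (FiveL DD)
open Cfsg.Agent.Omega.NO3S.EThree.ExactA (eab_mono eab_sup eab_iff)
open Cfsg.Agent.Omega.NO3S.TwoB (V_le_of Z_le le_norm_V)
open Cfsg.Agent.Omega.NO3S.ML (card_mul_relIndex)
open Cfsg.Agent.Omega.NoFF.Basic (comm_symm comm_mono)
open scoped Pointwise

universe u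

variable {G : Type u} [Group G]

/-! ### Centralisers modulo `z` -/

/-- the elements of `C ∩ C(z)` which centralise `W` modulo `z` -/
def kz (C W : Subgroup G) (z : G) : Subgroup G where
  carrier := {a | a ∈ C ∧ a ∈ centralizer ({z} : Set G) ∧ ∀ x ∈ W, a * x * a⁻¹ * x⁻¹ ∈ zpowers z}
  one_mem' := ⟨one_mem _, one_mem _, fun x _ => by
    have e : (1 : G) * x * 1⁻¹ * x⁻¹ = 1 := by group
    rw [e]
    exact one_mem _⟩
  mul_mem' := by
    rintro a b ⟨ha, ha1, ha2⟩ ⟨hb, hb1, hb2⟩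
    refine ⟨mul_mem ha hb, mul_mem ha1 hb1, fun x hx => ?_⟩
    have e : a * b * x * (a * b)⁻¹ * x⁻¹ = a * (b * x * b⁻¹ * x⁻¹) * a⁻¹ * (a * x * a⁻¹ * x⁻¹) := by group
    rw [e]
    refine mul_mem ?_ (ha2 x hx)
    have h1 : a ∈ normalizer (zpowers z : Set G) := by
      refine centralizer_le_normalizer _ ?_
      rw [cent_zpowers]
      exact ha1
    exact (mem_normalizer_iff.1 h1 _).1 (hb2 x hx)
  inv_mem' := by
    rintro a ⟨ha, ha1, ha2⟩
    refine ⟨inv_mem ha, inv_mem ha1, fun x hx => ?_⟩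
    have e : a⁻¹ * x * a⁻¹⁻¹ * x⁻¹ = a⁻¹ * (a * x * a⁻¹ * x⁻¹)⁻¹ * a⁻¹⁻¹ := by group
    rw [e]
    have h1 : a⁻¹ ∈ normalizer (zpowers z : Set G) := by
      refine centralizer_le_normalizer _ ?_
      rw [cent_zpowers]
      exact inv_mem ha1
    exact (mem_normalizer_iff.1 h1 _).1 (inv_mem (ha2 x hx))

/-- the elements of `W ∩ C(z)` which are centralised by `B` modulo `z` -/
def cz (W B : Subgroup G) (z : G) : Subgroup G where
  carrier := {x | x ∈ W ∧ x ∈ centralizer ({z} : Set G) ∧ ∀ a ∈ B, a * x * a⁻¹ * x⁻¹ ∈ zpowers z}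
  one_mem' := ⟨one_mem _, one_mem _, fun a _ => by
    have e : a * (1 : G) * a⁻¹ * 1⁻¹ = 1 := by group
    rw [e]
    exact one_mem _⟩
  mul_mem' := by
    rintro x y ⟨hx, hx1, hx2⟩ ⟨hy, hy1, hy2⟩
    refine ⟨mul_mem hx hy, mul_mem hx1 hy1, fun a ha => ?_⟩
    have e : a * (x * y) * a⁻¹ * (x * y)⁻¹ = (a * x * a⁻¹ * x⁻¹) * (x * (a * y * a⁻¹ * y⁻¹) * x⁻¹) := by group
    rw [e]
    refine mul_mem (hx2 a ha) ?_
    have h1 : x ∈ normalizer (zpowers z : Set G) := by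
      refine centralizer_le_normalizer _ ?_
      rw [cent_zpowers]
      exact hx1
    exact (mem_normalizer_iff.1 h1 _).1 (hy2 a ha)
  inv_mem' := by
    rintro x ⟨hx, hx1, hx2⟩
    refine ⟨inv_mem hx, inv_mem hx1, fun a ha => ?_⟩
    have e : a * x⁻¹ * a⁻¹ * x⁻¹⁻¹ = x⁻¹ * (a * x * a⁻¹ * x⁻¹)⁻¹ * x⁻¹⁻¹ := by group
    rw [e]
    have h1 : x⁻¹ ∈ normalizer (zpowers z : Set G) := by
      refine centralizer_le_normalizer _ ?_
      rw [cent_zpowers]
      exact inv_mem hx1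
    exact (mem_normalizer_iff.1 h1 _).1 (inv_mem (hx2 a ha))

theorem mem_kz {C W : Subgroup G} {z a : G} :
    a ∈ kz C W z ↔ a ∈ C ∧ a ∈ centralizer ({z} : Set G) ∧ ∀ x ∈ W, a * x * a⁻¹ * x⁻¹ ∈ zpowers z := Iff.rfl

theorem mem_cz {W B : Subgroup G} {z x : G} :
    x ∈ cz W B z ↔ x ∈ W ∧ x ∈ centralizer ({z} : Set G) ∧ ∀ a ∈ B, a * x * a⁻¹ * x⁻¹ ∈ zpowers z := Iff.rfl

/-! ### The groups -/

/-- `W = ⟨n^C_z⟩` -/
abbrev Wz (p : Fin 5 → G) : Subgroup G := NoFF.Basic.V (zpowers (nn p)) (centralizer ({p 4} : Set G))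

/-- `U = ⟨V^C_z⟩` -/
abbrev Uz [Finite G] (S : Sylow 2 G) (P : Subgroup G) (p : Fin 5 → G) : Subgroup G :=
  NoFF.Basic.V (zl (S : Subgroup G) P) (centralizer ({p 4} : Set G))

/-- **the exactness of `A`** -/
structure Ex [Finite G] (S : Sylow 2 G) (P : Subgroup G) (p : Fin 5 → G) (A : Subgroup G) : Prop where
  ker : ∀ a ∈ A, (∀ w ∈ Wz p, a * w * a⁻¹ * w⁻¹ ∈ zpowers (p 4)) → a ∈ centralizer (Uz S P p : Set G)
  fix : ∀ w ∈ Wz p, (∀ a ∈ A, a * w * a⁻¹ * w⁻¹ ∈ zpowers (p 4)) → w ∈ centralizer (A : Set G)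
  exW : (centralizer (Wz p : Set G)).relIndex A = (centralizer (A : Set G)).relIndex (Wz p)
  exU : (centralizer (Uz S P p : Set G)).relIndex A = (centralizer (A : Set G)).relIndex (Uz S P p)
  split : Uz S P p ≤ Wz p ⊔ (Uz S P p ⊓ centralizer (A : Set G))

section

variable [Finite G] {S : Sylow 2 G} {P : Subgroup G} {p : Fin 5 → G} (h : LF S P p)
include h

theorem S_le : (S : Subgroup G) ≤ centralizer ({p 4} : Set G) := fun x hx => mem_cent.2 (h.std.fix x hx)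

theorem V_le : zl (S : Subgroup G) P ≤ centralizer ({p 4} : Set G) := fun _ hx =>
  mem_centralizer_singleton_iff.2 (h.V_comm hx (h.p_mem 4))

theorem Uz_comm : Uz S P p ≤ centralizer (Uz S P p : Set G) := comm_mono h.W_comm h.W_le_CC h.W_le_CC

theorem Uz_el : IsElementaryAbelian 2 (Uz S P p) := by
  refine eab_iff.2 ⟨Uz_comm h, ?_⟩
  have hc : ∀ x ∈ Uz S P p, ∀ y ∈ Uz S P p, x * y = y * x := fun x hx y hy =>
    (mem_centralizer_iff.1 (Uz_comm h hy) x hx)
  let E : Subgroup G :=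
    { carrier := {x | x ∈ Uz S P p ∧ x ^ 2 = 1}
      one_mem' := ⟨one_mem _, one_pow 2⟩
      mul_mem' := by
        rintro a b ⟨ha, ha2⟩ ⟨hb, hb2⟩
        refine ⟨mul_mem ha hb, ?_⟩
        rw [(show Commute a b from hc a ha b hb).mul_pow, ha2, hb2, one_mul]
      inv_mem' := by
        rintro a ⟨ha, ha2⟩
        refine ⟨inv_mem ha, ?_⟩
        rw [inv_pow, ha2, inv_one] }
  have h1 : Uz S P p ≤ E := by
    refine V_le_of ?_ ?_
    · intro x hx
      refine ⟨Z_le _ _ hx, ?_⟩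
      rw [pow_two]
      exact h.V_sq hx
    · have key : ∀ g ∈ centralizer ({p 4} : Set G), ∀ x ∈ E, g * x * g⁻¹ ∈ E := by
        rintro g hg x ⟨hx, hx2⟩
        refine ⟨(mem_normalizer_iff.1 (le_norm_V _ _ hg) x).1 hx, ?_⟩
        rw [conj_pow, hx2]
        group
      intro g hg
      rw [mem_normalizer_iff]
      refine fun x => ⟨key g hg x, fun hx => ?_⟩
      have h2 := key g⁻¹ (inv_mem hg) _ hx
      have e : g⁻¹ * (g * x * g⁻¹) * g⁻¹⁻¹ = x := by group
      rwa [e] at h2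
  exact fun x hx => (h1 hx).2

theorem n_mem : nn p ∈ Wz p := Z_le _ _ (mem_zpowers _)

theorem a_mem : aa p ∈ Wz p := by
  obtain ⟨s, hs, hs1, -, -⟩ := NO3S.LightB.swap h.toFive
  rw [← hs1]
  exact (mem_normalizer_iff.1 (le_norm_V _ _ (S_le h hs)) _).1 (n_mem h)

theorem z_mem : p 4 ∈ Wz p := by
  rw [← h.std.na]
  exact mul_mem (n_mem h) (a_mem h)

theorem Wz_le : Wz p ≤ Uz S P p :=
  V_le_of ((zpowers_le.2 h.n_mem).trans (Z_le _ _)) (le_norm_V _ _)

theorem Uz_le_cent : Uz S P p ≤ centralizer ({p 4} : Set G) := V_le_of (V_le h) Subgroup.le_normalizer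

theorem dd_le : dd p ≤ centralizer ({p 4} : Set G) := by
  intro x hx
  have h1 := mem_cent.1 hx.1
  have h2 := mem_cent.1 hx.2
  rw [mem_cent, ← h.std.na, cm, h1, h2]

/-- `U ≤ O` -/
theorem Uz_le : Uz S P p ≤ o2 (dd p) := by
  refine le_o2 ?_ ?_ ((dd_le h).trans (le_norm_V _ _))
  · intro x hx
    have h1 := Uz_comm h hx
    have hn : nn p ∈ Uz S P p := Z_le _ _ h.n_mem
    have ha : aa p ∈ Uz S P p := Z_le _ _ h.a_mem
    exact ⟨mem_centralizer_singleton_iff.2 (mem_centralizer_iff.1 h1 _ hn).symm,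
      mem_centralizer_singleton_iff.2 (mem_centralizer_iff.1 h1 _ ha).symm⟩
  · intro x
    refine ⟨1, ?_⟩
    apply Subtype.ext
    rw [pow_one]
    exact (eab_iff.1 (Uz_el h)).2 x x.2

/-- an element of `C_z` which fixes `n` modulo `z` normalises `D` -/
theorem norm_dd {g : G} (hg : g ∈ centralizer ({p 4} : Set G)) (hn : g * nn p * g⁻¹ * (nn p)⁻¹ ∈ zpowers (p 4)) :
    g ∈ normalizer (dd p : Set G) := by
  have key : ∀ g : G, g ∈ centralizer ({p 4} : Set G) →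
      (g * nn p * g⁻¹ = nn p ∧ g * aa p * g⁻¹ = aa p) ∨ (g * nn p * g⁻¹ = aa p ∧ g * aa p * g⁻¹ = nn p) →
      ∀ x ∈ dd p, g⁻¹ * x * g ∈ dd p := by
    intro g _ hc x hx
    have h1 := mem_cent.1 hx.1
    have h2 := mem_cent.1 hx.2
    rcases hc with ⟨e1, e2⟩ | ⟨e1, e2⟩
    · refine ⟨mem_cent.2 ?_, mem_cent.2 ?_⟩
      · calc g⁻¹ * x * g * nn p * (g⁻¹ * x * g)⁻¹ = g⁻¹ * (x * (g * nn p * g⁻¹) * x⁻¹) * g := by group
          _ = g⁻¹ * (g * nn p * g⁻¹) * g := by rw [e1, h1]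
          _ = nn p := by group
      · calc g⁻¹ * x * g * aa p * (g⁻¹ * x * g)⁻¹ = g⁻¹ * (x * (g * aa p * g⁻¹) * x⁻¹) * g := by group
          _ = g⁻¹ * (g * aa p * g⁻¹) * g := by rw [e2, h2]
          _ = aa p := by group
    · refine ⟨mem_cent.2 ?_, mem_cent.2 ?_⟩
      · calc g⁻¹ * x * g * nn p * (g⁻¹ * x * g)⁻¹ = g⁻¹ * (x * (g * nn p * g⁻¹) * x⁻¹) * g := by group
          _ = g⁻¹ * (g * nn p * g⁻¹) * g := by rw [e1, h2]
          _ = nn p := by group
      · calc g⁻¹ * x * g * aa p * (g⁻¹ * x * g)⁻¹ = g⁻¹ * (x * (g * aa p * g⁻¹) * x⁻¹) * g := by group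
          _ = g⁻¹ * (g * aa p * g⁻¹) * g := by rw [e2, h1]
          _ = aa p := by group
  have h4 : g * p 4 * g⁻¹ = p 4 := mem_cent.1 hg
  have hc : (g * nn p * g⁻¹ = nn p ∧ g * aa p * g⁻¹ = aa p) ∨ (g * nn p * g⁻¹ = aa p ∧ g * aa p * g⁻¹ = nn p) := by
    obtain ⟨k, hk⟩ := mem_zpowers_iff.1 hn
    have hz : p 4 ^ k = 1 ∨ p 4 ^ k = p 4 := by
      rcases Int.even_or_odd k with ⟨m, hm⟩ | ⟨m, hm⟩
      · left
        rw [hm, ← two_mul, zpow_mul, zpow_two, h.std.sq, one_zpow]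
      · right
        rw [hm, zpow_add, zpow_mul, zpow_two, h.std.sq, one_zpow, one_mul, zpow_one]
    rcases hz with e | e
    · left
      have e1 : g * nn p * g⁻¹ = nn p := by
        rw [e] at hk
        exact mul_inv_eq_one.1 hk.symm
      refine ⟨e1, ?_⟩
      rw [h.std.a_eq, cm, e1, h4]
    · right
      have e1 : g * nn p * g⁻¹ = aa p := by
        rw [e] at hk
        have h5 := mul_inv_eq_iff_eq_mul.1 hk.symm
        rw [h5, ← h.std.an, mul_assoc, h.std.nsq, mul_one]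
      refine ⟨e1, ?_⟩
      rw [h.std.a_eq, cm, e1, h4, ← h.std.an, ← mul_assoc, h.std.asq, one_mul]
  have hc' : (g⁻¹ * nn p * g⁻¹⁻¹ = nn p ∧ g⁻¹ * aa p * g⁻¹⁻¹ = aa p) ∨
      (g⁻¹ * nn p * g⁻¹⁻¹ = aa p ∧ g⁻¹ * aa p * g⁻¹⁻¹ = nn p) := by
    rcases hc with ⟨e1, e2⟩ | ⟨e1, e2⟩
    · left
      constructor
      · calc g⁻¹ * nn p * g⁻¹⁻¹ = g⁻¹ * (g * nn p * g⁻¹) * g := by rw [e1, inv_inv]
          _ = nn p := by group
      · calc g⁻¹ * aa p * g⁻¹⁻¹ = g⁻¹ * (g * aa p * g⁻¹) * g := by rw [e2, inv_inv]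
          _ = aa p := by group
    · right
      constructor
      · calc g⁻¹ * nn p * g⁻¹⁻¹ = g⁻¹ * (g * aa p * g⁻¹) * g := by rw [e2, inv_inv]
          _ = aa p := by group
      · calc g⁻¹ * aa p * g⁻¹⁻¹ = g⁻¹ * (g * nn p * g⁻¹) * g := by rw [e1, inv_inv]
          _ = nn p := by group
  rw [mem_normalizer_iff]
  intro x
  constructor
  · intro hx
    have h5 := key g⁻¹ (inv_mem hg) hc' x hx
    rwa [inv_inv] at h5
  · intro hx
    have h5 := key g hg hc _ hx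
    have e : g⁻¹ * (g * x * g⁻¹) * g = x := by group
    rwa [e] at h5

/-- (ML) on `W / z` -/
theorem gdat {B : Subgroup G} (hB : IsElementaryAbelian 2 B) (hBO : B ≤ o2 (dd p)) :
    ML.Final.GDat (centralizer ({p 4} : Set G)) (Wz p) (zpowers (p 4)) (S : Subgroup G) (o2 (dd p)) B (nn p) where
  nW := le_norm_V _ _
  nY := by
    rw [← cent_zpowers]
    exact centralizer_le_normalizer _
  YW := zpowers_le.2 (z_mem h)
  WY := by
    refine ((Wz_le h).trans (Uz_le_cent h)).trans ?_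
    rw [← cent_zpowers]
    exact centralizer_le_normalizer _
  sq := fun x hx => by
    have h1 := (eab_iff.1 (Uz_el h)).2 x (Wz_le h hx)
    rw [pow_two] at h1
    rw [h1]
    exact one_mem _
  mem := n_mem h
  gen := fun U hU _ hC => V_le_of (zpowers_le.2 hU) hC
  TC := S_le h
  two := S.isPGroup'
  odd := by
    have : Fact (Nat.Prime 2) := ⟨Nat.prime_two⟩
    exact fun h2 => Sylow.not_dvd_index S (h2.trans (relIndex_dvd_index_of_le (S_le h)))
  fixT := by
    intro t ht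
    rcases h.std.part t ht with e | e
    · have e' : t * nn p * t⁻¹ = nn p := e
      rw [e', mul_inv_cancel]
      exact one_mem _
    · have e' : t * nn p * t⁻¹ = aa p := e
      have e2 : (nn p)⁻¹ = nn p := inv_eq_of_mul_eq_one_left h.std.nsq
      rw [e', e2, h.std.an]
      exact mem_zpowers _
  QC := (o2_le _).trans (dd_le h)
  Q2 := o2_isPGroup _
  fixQ := by
    intro q hq
    rw [mem_cent.1 ((o2_le _) hq).1, mul_inv_cancel]
    exact one_mem _
  nrmQ := by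
    intro g hg hn q hq
    exact (mem_normalizer_iff.1 (normalizer_le_normalizer_o2 _ (norm_dd h hg hn)) q).1 hq
  AQ := hBO
  Asq := by
    intro a ha x _
    have h1 := (eab_iff.1 hB).2 a ha
    rw [pow_two] at h1
    have e : a * (a * x * a⁻¹) * a⁻¹ * x⁻¹ = (a * a) * x * (a * a)⁻¹ * x⁻¹ := by group
    rw [e, h1]
    have e2 : (1 : G) * x * 1⁻¹ * x⁻¹ = 1 := by group
    rw [e2]
    exact one_mem _

/-- `|B : C_B(W/z)| ≤ |W : C_W(B mod z)|` -/
theorem no (hML : ML.Final.MLK.{u, u}) {B : Subgroup G} (hB : IsElementaryAbelian 2 B) (hBO : B ≤ o2 (dd p)) :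
    (kz B (Wz p) (p 4)).relIndex B ≤ (cz (Wz p) B (p 4)).relIndex (Wz p) := by
  refine hML.grp (kg_cent h.ctx (h.std.ne 4)) (gdat h hB hBO) (fun a => ?_) fun x => ?_
  · rw [mem_kz]
    exact ⟨fun h1 => ⟨h1.1, h1.2.2⟩, fun h1 => ⟨h1.1, dd_le h (o2_le _ (hBO h1.1)), h1.2⟩⟩
  · rw [mem_cz]
    exact ⟨fun h1 => ⟨h1.1, h1.2.2⟩, fun h1 => ⟨h1.1, Uz_le_cent h (Wz_le h h1.1), h1.2⟩⟩

/-- **(0c)** -/
theorem O_inf : o2 (dd p) ⊓ kz (centralizer ({p 4} : Set G)) (Wz p) (p 4) ≤ o2 (centralizer ({p 4} : Set G)) := by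
  set N := kz (centralizer ({p 4} : Set G)) (Wz p) (p 4) with hN
  have hNC : N ≤ centralizer ({p 4} : Set G) := fun x hx => hx.1
  have hNn : N ≤ normalizer (o2 (dd p) : Set G) := fun x hx =>
    normalizer_le_normalizer_o2 _ (norm_dd h hx.1 (hx.2.2 _ (n_mem h)))
  have hCN : centralizer ({p 4} : Set G) ≤ normalizer (N : Set G) := by
    have key : ∀ g ∈ centralizer ({p 4} : Set G), ∀ x ∈ N, g * x * g⁻¹ ∈ N := by
      intro g hg x hx
      refine ⟨mul_mem (mul_mem hg hx.1) (inv_mem hg), mul_mem (mul_mem hg hx.1) (inv_mem hg), fun w hw => ?_⟩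
      have hw' : g⁻¹ * w * g ∈ Wz p := by
        have h2 := (mem_normalizer_iff.1 (le_norm_V (zpowers (nn p)) _ (inv_mem hg)) w).1 hw
        rwa [inv_inv] at h2
      have h3 := hx.2.2 _ hw'
      have e : g * x * g⁻¹ * w * (g * x * g⁻¹)⁻¹ * w⁻¹ = g * (x * (g⁻¹ * w * g) * x⁻¹ * (g⁻¹ * w * g)⁻¹) * g⁻¹ := by
        group
      rw [e]
      have h4 : g ∈ normalizer (zpowers (p 4) : Set G) := by
        refine centralizer_le_normalizer _ ?_
        rw [cent_zpowers]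
        exact hg
      exact (mem_normalizer_iff.1 h4 _).1 h3
    intro g hg
    rw [mem_normalizer_iff]
    refine fun x => ⟨key g hg x, fun hx => ?_⟩
    have h2 := key g⁻¹ (inv_mem hg) _ hx
    have e : g⁻¹ * (g * x * g⁻¹) * g⁻¹⁻¹ = x := by group
    rwa [e] at h2
  have h1 : o2 (dd p) ⊓ N ≤ o2 N :=
    le_o2 inf_le_right ((o2_isPGroup _).to_le inf_le_left)
      (le_trans (le_inf hNn Subgroup.le_normalizer) inf_normalizer_le_normalizer_inf)
  exact h1.trans (le_o2 ((o2_le _).trans hNC) (o2_isPGroup _) (hCN.trans (normalizer_le_normalizer_o2 _)))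

/-- `O₂(C_z)` centralises `U` -/
theorem Q_cent (hQ : o2 (centralizer ({p 4} : Set G)) ≤ centralizer (zl (S : Subgroup G) P : Set G)) :
    o2 (centralizer ({p 4} : Set G)) ≤ centralizer (Uz S P p : Set G) :=
  comm_symm (V_le_of (comm_symm hQ) ((le_normalizer_o2 _).trans (nc _)))

/-- **(1): exactness.** -/
theorem exact (hML : ML.Final.MLK.{u, u})
    (hQ : o2 (centralizer ({p 4} : Set G)) ≤ centralizer (zl (S : Subgroup G) P : Set G)) {A : Subgroup G}
    (hA : A ∈ AA (o2 (dd p))) : Ex S P p A := by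
  set W := Wz p with hW
  set U := Uz S P p with hU
  set z := p 4 with hz
  have hUe := Uz_el h
  have hUO := Uz_le h
  have hWU := Wz_le h
  have hUc := Uz_comm h
  have hAC : A ≤ centralizer ({z} : Set G) := hA.2.1.trans ((o2_le _).trans (dd_le h))
  set KA := kz A W z with hKA
  set CW := cz W A z with hCW
  have hKAA : KA ≤ A := fun a ha => ha.1
  have hCWW : CW ≤ W := fun a ha => ha.1
  -- `C_A(W/z) ≤ C(U)`
  have hKU : KA ≤ centralizer (U : Set G) := by
    intro a ha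
    exact Q_cent h hQ (O_inf h ⟨hA.2.1 ha.1, ha.2.1, ha.2.1, ha.2.2⟩)
  have hWK : A ⊓ centralizer (W : Set G) ≤ KA := by
    rintro a ⟨ha, ha2⟩
    refine ⟨ha, hAC ha, fun x hx => ?_⟩
    have e : a * x * a⁻¹ * x⁻¹ = 1 := by
      rw [mul_inv_eq_one, mul_inv_eq_iff_eq_mul]
      exact (mem_centralizer_iff.1 ha2 x hx).symm
    rw [e]
    exact one_mem _
  have hWC : W ⊓ centralizer (A : Set G) ≤ CW := by
    rintro x ⟨hx, hx2⟩
    refine ⟨hx, Uz_le_cent h (hWU hx), fun a ha => ?_⟩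
    have e : a * x * a⁻¹ * x⁻¹ = 1 := by
      rw [mul_inv_eq_one, mul_inv_eq_iff_eq_mul]
      exact mem_centralizer_iff.1 hx2 a ha
    rw [e]
    exact one_mem _
  -- the chain
  have i1 : (centralizer (U : Set G)).relIndex A ≤ KA.relIndex A := by
    rw [← inf_relIndex_left A (centralizer (U : Set G))]
    exact relIndex_le_of_le_left (le_inf hKAA hKU) (ri_ne _ _)
  have i2 : KA.relIndex A ≤ CW.relIndex W := no h hML hA.1 hA.2.1
  have i3 : CW.relIndex W ≤ (centralizer (A : Set G)).relIndex W := by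
    rw [← inf_relIndex_left W (centralizer (A : Set G))]
    exact relIndex_le_of_le_left hWC (ri_ne _ _)
  have i4 : (centralizer (A : Set G)).relIndex W ≤ (centralizer (A : Set G)).relIndex U := ri_mono _ hWU
  have i5 : (centralizer (A : Set G)).relIndex U ≤ (centralizer (U : Set G)).relIndex A := le_of_mem hUe hUO hA
  have eWU : (centralizer (A : Set G)).relIndex W = (centralizer (A : Set G)).relIndex U :=
    le_antisymm i4 (i5.trans (i1.trans (i2.trans i3)))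
  have eC : CW.relIndex W = (centralizer (A : Set G)).relIndex W :=
    le_antisymm i3 (i4.trans (i5.trans (i1.trans i2)))
  have eA : (centralizer (U : Set G)).relIndex A = (centralizer (A : Set G)).relIndex U :=
    le_antisymm (i1.trans (i2.trans (i3.trans i4))) i5
  have eAU : A ⊓ centralizer (W : Set G) = A ⊓ centralizer (U : Set G) :=
    le_antisymm (le_inf inf_le_left (hWK.trans hKU)) (inf_le_inf_left _ (centralizer_le hWU))
  refine ⟨fun a ha h1 => hKU ⟨ha, hAC ha, h1⟩, ?_, ?_, eA, ?_⟩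
  · intro w hw h1
    have h2 : W ⊓ centralizer (A : Set G) = CW := by
      refine Subgroup.eq_of_le_of_card_ge hWC ?_
      have h3 := card_mul_relIndex hCWW
      have h4 := card_mul_relIndex (inf_le_left : W ⊓ centralizer (A : Set G) ≤ W)
      rw [inf_relIndex_left] at h4
      rw [eC] at h3
      have h5 := ri_ne (centralizer (A : Set G)) W
      exact (Nat.eq_of_mul_eq_mul_right (Nat.pos_of_ne_zero h5) (h3.trans h4.symm)).le
    have h3 : w ∈ CW := ⟨hw, Uz_le_cent h (hWU hw), h1⟩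
    rw [← h2] at h3
    exact h3.2
  · rw [← inf_relIndex_left A (centralizer (W : Set G)), eAU, inf_relIndex_left, eA, eWU]
  · set X := U ⊓ centralizer (A : Set G) with hX
    have hab : ∀ v ∈ W ⊔ X, ∀ w ∈ W ⊔ X, v * w = w * v := by
      intro v hv w hw
      have hle : W ⊔ X ≤ U := sup_le hWU inf_le_left
      exact mem_centralizer_iff.1 (hUc (hle hw)) v (hle hv)
    have h1 : (centralizer (A : Set G)).relIndex (W ⊔ X : Subgroup G) = (centralizer (A : Set G)).relIndex W :=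
      NO3b.BasePt.Count.relIndex_sup hab le_sup_right le_sup_left (sup_comm W X).le inf_le_right
    have hle : W ⊔ X ≤ U := sup_le hWU inf_le_left
    refine (Subgroup.eq_of_le_of_card_ge hle ?_).ge
    have h3 := card_mul_relIndex (le_sup_right : X ≤ W ⊔ X)
    have h4 := card_mul_relIndex (inf_le_left : X ≤ U)
    have e1 : X.relIndex (W ⊔ X : Subgroup G) = (centralizer (A : Set G)).relIndex (W ⊔ X : Subgroup G) := by
      have e : (W ⊔ X) ⊓ centralizer (A : Set G) = X :=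
        le_antisymm (inf_le_inf_right _ hle) (le_inf le_sup_right inf_le_right)
      rw [← inf_relIndex_left (W ⊔ X) (centralizer (A : Set G)), e]
    have e2 : X.relIndex U = (centralizer (A : Set G)).relIndex U := inf_relIndex_left _ _
    rw [e1, h1, eWU, ← e2, h4] at h3
    exact h3.le

end

end Cfsg.Agent.Omega.LFive.JZ
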