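import Cfsg.Agent.Omega.LFive.JZDich
import Cfsg.Agent.Omega.LFive.JZExact

/-!
# THEOREM JZ over the common frame `LF`: `N₀ ≤ C(U)` and the mover

* `GF.comm_le` : `U ≤ W C_U(A)` implies `[U, A] ≤ W`;
* **`LF.N0_le`** : `J(O₂(D)) ≰ C(U)` implies `N₀ ≤ C(U)`;
* `LF.exists_A` : some `A ∈ 𝒜(O₂(D))` moves `W / z` (and `W`).
-/

set_option autoImplicit false
set_option linter.unusedSectionVars false

namespace Cfsg.Agent.Omega.NO3S.JZ

open Subgroup Cfsg Cfsg.Agent.ZN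

universe u

variable {G : Type u} [Group G] [Finite G]

theorem GF.comm_le {z a : G} {S V F U W : Subgroup G} (h : GF z a S V F U W) {A : Subgroup G}
    (hAC : A ≤ centralizer ({z} : Set G)) (hs : U ≤ W ⊔ (U ⊓ centralizer (A : Set G))) :
    ∀ b ∈ A, ∀ u ∈ U, b * u * b⁻¹ * u⁻¹ ∈ W := by
  intro b hb
  have hbC := hAC hb
  let X : Subgroup G :=
    { carrier := {v | v ∈ U ∧ b * v * b⁻¹ * v⁻¹ ∈ W}
      mul_mem' := by
        rintro v w ⟨hv, hv'⟩ ⟨hw, hw'⟩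
        refine ⟨mul_mem hv hw, ?_⟩
        have e : b * (v * w) * b⁻¹ * (v * w)⁻¹ = b * v * b⁻¹ * (b * w * b⁻¹ * w⁻¹) * v⁻¹ := by group
        have h1 : b * v * b⁻¹ ∈ U := nm (h.CU hbC) hv
        rw [e, h.Uc _ h1 _ (h.WU hw'), mul_assoc]
        exact mul_mem hw' hv'
      one_mem' := ⟨one_mem _, by simp⟩
      inv_mem' := by
        rintro v ⟨hv, hv'⟩
        have e : v⁻¹ = v := inv_eq_of_mul_eq_one_right (h.Usq _ hv)
        rw [e]
        exact ⟨hv, hv'⟩ }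
  have hX : U ≤ X := by
    refine hs.trans (sup_le (fun w hw => ⟨h.WU hw, ?_⟩) fun c hc => ⟨hc.1, ?_⟩)
    · exact mul_mem (nm (h.CW hbC) hw) (inv_mem hw)
    · rw [mem_centralizer_iff.1 hc.2 b hb, mul_inv_cancel_right, mul_inv_cancel]
      exact one_mem _
  exact fun u hu => (hX hu).2

end Cfsg.Agent.Omega.NO3S.JZ

namespace Cfsg.Agent.Omega.LFive

open Subgroup Cfsg Cfsg.Agent.ZN Cfsg.Agent.Omega.MinPar Cfsg.Agent.Omega.Frame
open Cfsg.Agent.ZN.ChoiceBase (AA jj_eq)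
open Cfsg.Agent.Omega.NTwo (nn aa Std Fv mem_cent cm)
open Cfsg.Agent.Omega.NO3S.JZ (GF N0 nm nm_of cz_conj)
open Cfsg.Agent.Omega.LFive.JZ (Wz Uz Ex)

universe u

variable {G : Type u} [Group G] [Finite G] {S : Sylow 2 G} {P : Subgroup G} {p : Fin 5 → G}

/-- some `A ∈ 𝒜(O₂(D))` moves `U` -/
theorem exists_move {O U : Subgroup G} (hJ : ¬ jj O ≤ centralizer (U : Set G)) :
    ∃ A ∈ AA O, ¬ A ≤ centralizer (U : Set G) := by
  by_contra hc
  push Not at hc
  rw [jj_eq] at hJ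
  exact hJ (sSup_le fun A hA => hc A hA)

/-- an exact `A` centralising `W` modulo `z` centralises `U` -/
theorem Ex.move {A : Subgroup G} (ex : Ex S P p A) (hA : ¬ A ≤ centralizer (Uz S P p : Set G)) :
    ¬ A ≤ centralizer (Wz p : Set G) := by
  intro h1
  refine hA fun a ha => ex.ker a ha fun w hw => ?_
  rw [← mem_centralizer_iff.1 (h1 ha) w hw, mul_inv_cancel_right, mul_inv_cancel]
  exact one_mem _

/-- **`N₀` centralises `U`** -/
theorem LF.N0_le (h : LF S P p) {F : Subgroup G}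
    (g : GF (p 4) (nn p) (S : Subgroup G) (zl (S : Subgroup G) P) F (Uz S P p) (Wz p)) (hF : F = Fe p)
    (hML : ML.Final.MLK.{u, u})
    (hq : o2 (centralizer ({p 4} : Set G)) ≤ centralizer (zl (S : Subgroup G) P : Set G))
    (hJ : ¬ jj (o2 (dd p)) ≤ centralizer (Uz S P p : Set G)) :
    N0 (p 4) (Wz p) ≤ centralizer (Uz S P p : Set G) := by
  rcases h.dich g hF hq with h1 | h1
  · exact h1
  · exfalso
    obtain ⟨A, hA, hAU⟩ := exists_move hJ
    have ex := JZ.exact h hML hq hA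
    refine hAU (h1 A hA.2.1 (g.comm_le (hA.2.1.trans ?_) ex.split))
    rw [h.dd_eq]
    exact (MinSimple.VModule.o2_le _).trans inf_le_right

/-- the mover -/
theorem LF.exists_A (h : LF S P p) (hML : ML.Final.MLK.{u, u})
    (hq : o2 (centralizer ({p 4} : Set G)) ≤ centralizer (zl (S : Subgroup G) P : Set G))
    (hJ : ¬ jj (o2 (dd p)) ≤ centralizer (Uz S P p : Set G)) :
    ∃ A ∈ AA (o2 (dd p)), Ex S P p A ∧ ¬ A ≤ centralizer (Uz S P p : Set G) ∧ ¬ A ≤ centralizer (Wz p : Set G) := by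
  obtain ⟨A, hA, hAU⟩ := exists_move hJ
  have ex := JZ.exact h hML hq hA
  exact ⟨A, hA, ex, hAU, Ex.move ex hAU⟩

end Cfsg.Agent.Omega.LFive
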