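import Mathlib

/-!
# The norm over an odd index (helper126 (f0); step (0) of THEOREM JZ, helper582 #26032)

`H` acts on an elementary abelian 2-group `U`, `C ≤ H` of odd index centralises `V ≤ U`, `C_U(H) ≤ V`, the 2-group `S`
normalises `U`, `V`, `H`, `C` and `C_V(S) ≤ C(H)`.  Then `H` centralises `V`.

* `norm_comm`, `norm_abs`, **`norm_grp`**.
-/

set_option autoImplicit false

namespace Cfsg.Agent.Omega.LFive.NormAbs

open Subgroup

universe u

theorem norm_comm {R M : Type*} [Group R] [Finite R] [CommGroup M] [Finite M] [MulDistribMulAction R M]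
    (sq : ∀ m : M, m * m = 1) {H C S : Subgroup R} (odd : ¬ 2 ∣ C.relIndex H)
    (SH : ∀ s ∈ S, ∀ h ∈ H, s * h * s⁻¹ ∈ H) (SC : ∀ s ∈ S, ∀ c ∈ C, s * c * s⁻¹ ∈ C) (S2 : IsPGroup 2 S)
    {V : Subgroup M} (CV : ∀ c ∈ C, ∀ v ∈ V, c • v = v) (SV : ∀ s ∈ S, ∀ v ∈ V, s • v ∈ V)
    (fixV : ∀ m : M, (∀ h ∈ H, h • m = m) → m ∈ V)
    (cS : ∀ v ∈ V, (∀ s ∈ S, s • v = v) → ∀ h ∈ H, h • v = v) : ∀ v ∈ V, ∀ h ∈ H, h • v = v := by
  classical
  have := Fintype.ofFinite (H ⧸ C.subgroupOf H)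
  let n : M →* M := MonoidHom.mk' (fun m => ∏ q : H ⧸ C.subgroupOf H, ((q.out : H) : R) • m) (fun a b => by
    rw [← Finset.prod_mul_distrib]
    exact Finset.prod_congr rfl fun q _ => smul_mul' _ _ _)
  have hn : ∀ m, n m = ∏ q : H ⧸ C.subgroupOf H, ((q.out : H) : R) • m := fun _ => rfl
  have key1 : ∀ v ∈ V, ∀ h : H, (((QuotientGroup.mk h : H ⧸ C.subgroupOf H).out : H) : R) • v = (h : R) • v := by
    intro v hv h
    obtain ⟨c, hc⟩ := QuotientGroup.mk_out_eq_mul (C.subgroupOf H) h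
    rw [hc]
    change ((h : R) * ((c : H) : R)) • v = _
    rw [mul_smul, CV _ (mem_subgroupOf.1 c.2) v hv]
  have key2 : ∀ v ∈ V, ∀ h ∈ H, h • n v = n v := by
    intro v hv h hh
    rw [hn, Finset.smul_prod']
    calc ∏ q : H ⧸ C.subgroupOf H, h • ((q.out : H) : R) • v
        = ∏ q : H ⧸ C.subgroupOf H, ((((⟨h, hh⟩ : H) • q).out : H) : R) • v := by
          refine Finset.prod_congr rfl fun q _ => ?_
          have h1 := key1 v hv (⟨h, hh⟩ * q.out)
          have e : (QuotientGroup.mk ((⟨h, hh⟩ : H) * q.out) : H ⧸ C.subgroupOf H) = (⟨h, hh⟩ : H) • q := by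
            conv_rhs => rw [← QuotientGroup.out_eq' q]
            rfl
          rw [e] at h1
          rw [h1]
          change _ = (h * ((q.out : H) : R)) • v
          rw [mul_smul]
      _ = ∏ q : H ⧸ C.subgroupOf H, ((q.out : H) : R) • v :=
          Equiv.prod_comp (MulAction.toPerm (⟨h, hh⟩ : H)) (fun q : H ⧸ C.subgroupOf H => ((q.out : H) : R) • v)
  have key3 : ∀ v : M, (∀ h ∈ H, h • v = v) → n v = v := by
    intro v hv
    rw [hn, Finset.prod_congr rfl fun q _ => hv _ (q.out : H).2, Finset.prod_const, Finset.card_univ]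
    have h2 : Fintype.card (H ⧸ C.subgroupOf H) = C.relIndex H := by
      rw [relIndex, Subgroup.index, Nat.card_eq_fintype_card]
    obtain ⟨k, hk⟩ : ∃ k, C.relIndex H = 2 * k + 1 := by
      obtain ⟨k, hk | hk⟩ := Nat.even_or_odd' (C.relIndex H)
      · exact absurd ⟨k, hk⟩ odd
      · exact ⟨k, hk⟩
    rw [h2, hk, pow_succ, pow_mul, pow_two, sq, one_pow, one_mul]
  have key4 : ∀ s ∈ S, ∀ v ∈ V, n (s • v) = s • n v := by
    intro s hs v hv
    let φ : H ⧸ C.subgroupOf H → H ⧸ C.subgroupOf H := fun q =>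
      QuotientGroup.mk (⟨s * (q.out : H) * s⁻¹, SH s hs _ (q.out : H).2⟩ : H)
    have hφ : Function.Injective φ := by
      intro q q' e
      have e1 : (⟨s * (q.out : H) * s⁻¹, SH s hs _ (q.out : H).2⟩ : H)⁻¹ *
          (⟨s * (q'.out : H) * s⁻¹, SH s hs _ (q'.out : H).2⟩ : H) ∈ C.subgroupOf H := QuotientGroup.eq.1 e
      have e2 : (s * (q.out : H) * s⁻¹)⁻¹ * (s * (q'.out : H) * s⁻¹) ∈ C := mem_subgroupOf.1 e1
      have e3 := SC s⁻¹ (inv_mem hs) _ e2
      have e4 : s⁻¹ * ((s * ((q.out : H) : R) * s⁻¹)⁻¹ * (s * ((q'.out : H) : R) * s⁻¹)) * s⁻¹⁻¹ =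
          ((q.out : H) : R)⁻¹ * ((q'.out : H) : R) := by group
      rw [e4] at e3
      have e5 : (q.out : H)⁻¹ * (q'.out : H) ∈ C.subgroupOf H := mem_subgroupOf.2 e3
      have e6 : (QuotientGroup.mk (q.out : H) : H ⧸ C.subgroupOf H) = QuotientGroup.mk (q'.out : H) :=
        QuotientGroup.eq.2 e5
      rwa [QuotientGroup.out_eq', QuotientGroup.out_eq'] at e6
    have hb : Function.Bijective φ := Finite.injective_iff_bijective.1 hφ
    rw [hn, hn, Finset.smul_prod']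
    have h1 := Equiv.prod_comp (Equiv.ofBijective φ hb) (fun q : H ⧸ C.subgroupOf H => ((q.out : H) : R) • s • v)
    rw [← h1]
    refine Finset.prod_congr rfl fun q _ => ?_
    change (((φ q).out : H) : R) • s • v = _
    rw [key1 _ (SV s hs v hv) _]
    change (s * ((q.out : H) : R) * s⁻¹) • s • v = _
    rw [smul_smul, inv_mul_cancel_right, mul_smul]
  -- the kernel of the norm on `V`
  have hK : ∀ v ∈ V, n v = 1 → v = 1 := by
    by_contra hcon
    push Not at hcon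
    obtain ⟨v₀, hv₀, hn0, hne⟩ := hcon
    let K : Subgroup M := V ⊓ n.ker
    have hSK : ∀ s ∈ S, ∀ v ∈ K, s • v ∈ K := by
      intro s hs v hv
      have h1 : v ∈ V := hv.1
      have h2 : n v = 1 := MonoidHom.mem_ker.1 hv.2
      refine ⟨SV s hs v h1, MonoidHom.mem_ker.2 ?_⟩
      rw [key4 s hs v h1, h2, smul_one]
    let _ : MulAction S K :=
      { smul := fun s k => ⟨(s : R) • (k : M), hSK s s.2 k k.2⟩
        one_smul := fun k => Subtype.ext (one_smul R (k : M))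
        mul_smul := fun a b k => Subtype.ext (mul_smul (a : R) (b : R) (k : M)) }
    have : Fact (Nat.Prime 2) := ⟨Nat.prime_two⟩
    have hd : 2 ∣ Nat.card K := by
      have hk : (⟨v₀, hv₀, MonoidHom.mem_ker.2 hn0⟩ : K) ≠ 1 := fun e => hne (congrArg Subtype.val e)
      have ho : orderOf (⟨v₀, hv₀, MonoidHom.mem_ker.2 hn0⟩ : K) = 2 :=
        orderOf_eq_prime (by rw [pow_two]; exact Subtype.ext (sq v₀)) hk
      rw [← ho]
      exact orderOf_dvd_natCard _
    obtain ⟨k, hk1, hk2⟩ := S2.exists_fixed_point_of_prime_dvd_card_of_fixed_point K hd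
      (a := (1 : K)) (fun s => Subtype.ext (smul_one (s : R)))
    apply hk2
    have h1 : ∀ s ∈ S, s • (k : M) = (k : M) := fun s hs => congrArg Subtype.val (hk1 ⟨s, hs⟩)
    have h2 := key3 (k : M) (cS k k.2.1 h1)
    have h3 : n (k : M) = 1 := MonoidHom.mem_ker.1 k.2.2
    exact Subtype.ext (h3.symm.trans h2)
  intro v hv
  have h1 : n v ∈ V := fixV _ (key2 v hv)
  have h2 : n (v * n v) = 1 := by
    rw [map_mul, key3 _ (key2 v hv), sq]
  have h3 : v = n v := by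
    have h4 := hK _ (mul_mem hv h1) h2
    exact (eq_inv_of_mul_eq_one_left h4).trans (inv_eq_of_mul_eq_one_left (sq _))
  intro h hh
  rw [h3]
  exact key2 v hv h hh

theorem norm_abs {R M : Type*} [Group R] [Finite R] [inst : Group M] [Finite M] [MulDistribMulAction R M]
    (sq : ∀ m : M, m * m = 1) (hc : ∀ a b : M, a * b = b * a) {H C S : Subgroup R} (odd : ¬ 2 ∣ C.relIndex H)
    (SH : ∀ s ∈ S, ∀ h ∈ H, s * h * s⁻¹ ∈ H) (SC : ∀ s ∈ S, ∀ c ∈ C, s * c * s⁻¹ ∈ C) (S2 : IsPGroup 2 S)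
    {V : Subgroup M} (CV : ∀ c ∈ C, ∀ v ∈ V, c • v = v) (SV : ∀ s ∈ S, ∀ v ∈ V, s • v ∈ V)
    (fixV : ∀ m : M, (∀ h ∈ H, h • m = m) → m ∈ V)
    (cS : ∀ v ∈ V, (∀ s ∈ S, s • v = v) → ∀ h ∈ H, h • v = v) : ∀ v ∈ V, ∀ h ∈ H, h • v = v := by
  obtain ⟨c, rfl⟩ : ∃ c : CommGroup M, c.toGroup = inst := ⟨{ inst with mul_comm := hc }, rfl⟩
  exact norm_comm sq odd SH SC S2 CV SV fixV cS

/-- **The norm over an odd index.** -/
theorem norm_grp {G : Type u} [Group G] [Finite G] {U V H C S : Subgroup G} (sq : ∀ x ∈ U, x * x = 1)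
    (cm : ∀ x ∈ U, ∀ y ∈ U, x * y = y * x) (HU : H ≤ normalizer (U : Set G)) (SU : S ≤ normalizer (U : Set G))
    (odd : ¬ 2 ∣ C.relIndex H) (SH : S ≤ normalizer (H : Set G)) (SC : S ≤ normalizer (C : Set G))
    (S2 : IsPGroup 2 S) (VU : V ≤ U) (CV : ∀ c ∈ C, ∀ v ∈ V, c * v = v * c) (SV : S ≤ normalizer (V : Set G))
    (fixV : ∀ u ∈ U, (∀ h ∈ H, h * u = u * h) → u ∈ V)
    (cS : ∀ v ∈ V, (∀ s ∈ S, s * v = v * s) → ∀ h ∈ H, h * v = v * h) : ∀ v ∈ V, ∀ h ∈ H, h * v = v * h := by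
  let _ : MulDistribMulAction (normalizer (U : Set G)) U :=
    MulDistribMulAction.compHom U (U.normalizerMonoidHom)
  have hsm : ∀ (g : normalizer (U : Set G)) (x : U), ((g • x : U) : G) = (g : G) * x * (g : G)⁻¹ := fun _ _ => rfl
  have hsm' : ∀ (g : normalizer (U : Set G)) (x : U), g • x = x ↔ (g : G) * x = x * g := by
    intro g x
    constructor
    · intro e
      have h1 := congrArg Subtype.val e
      rw [hsm] at h1
      exact mul_inv_eq_iff_eq_mul.1 h1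
    · intro e
      apply Subtype.ext
      rw [hsm]
      exact mul_inv_eq_iff_eq_mul.2 e
  have key := norm_abs (R := normalizer (U : Set G)) (M := U) (fun m => Subtype.ext (sq m m.2))
    (fun a b => Subtype.ext (cm a a.2 b b.2)) (H := H.subgroupOf (normalizer (U : Set G)))
    (C := C.subgroupOf (normalizer (U : Set G))) (S := S.subgroupOf (normalizer (U : Set G)))
    (V := V.subgroupOf U) ?_ ?_ ?_ ?_ ?_ ?_ ?_ ?_
  · intro v hv h hh
    have h1 := key ⟨v, VU hv⟩ (mem_subgroupOf.2 hv) ⟨h, HU hh⟩ (mem_subgroupOf.2 hh)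
    exact (hsm' _ _).1 h1
  · rwa [relIndex_subgroupOf HU]
  · intro s hs h hh
    exact mem_subgroupOf.2 ((mem_normalizer_iff.1 (SH (mem_subgroupOf.1 hs)) _).1 (mem_subgroupOf.1 hh))
  · intro s hs h hh
    exact mem_subgroupOf.2 ((mem_normalizer_iff.1 (SC (mem_subgroupOf.1 hs)) _).1 (mem_subgroupOf.1 hh))
  · exact S2.comap_of_injective _ (subtype_injective _)
  · intro c hc v hv
    exact (hsm' _ _).2 (CV _ (mem_subgroupOf.1 hc) _ (mem_subgroupOf.1 hv))
  · intro s hs v hv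
    exact mem_subgroupOf.2 ((mem_normalizer_iff.1 (SV (mem_subgroupOf.1 hs)) _).1 (mem_subgroupOf.1 hv))
  · intro m hm
    refine mem_subgroupOf.2 (fixV m m.2 fun h hh => ?_)
    exact (hsm' ⟨h, HU hh⟩ m).1 (hm _ (mem_subgroupOf.2 hh))
  · intro v hv h1 h hh
    refine (hsm' _ _).2 (cS v (mem_subgroupOf.1 hv) (fun s hs => ?_) h (mem_subgroupOf.1 hh))
    exact (hsm' ⟨s, SU hs⟩ v).1 (h1 _ (mem_subgroupOf.2 hs))

end Cfsg.Agent.Omega.LFive.NormAbs
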