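import Cfsg.Agent.Omega.LFive.Frame
import Cfsg.Agent.Omega.LFive.NormAbs
import Cfsg.Agent.Omega.NO3S.LightB.Facts
import Cfsg.Agent.Omega.NO3S.MFive.FailInst

/-!
# `C_G(F) = C_G(V)` and `N_G(F) ≤ N_G(V)`, `F = Even{0, 1, 2, 3}` (step (0) of THEOREM JZ, helper582 #26032)

`V` = even subsets of five letters, `p i` = the heavy vectors, `z = p 4`.  Coordinates with respect to
`p 0, p 1, p 2, p 3`.

* `w p c = p 0 ^ c₀ p 1 ^ c₁ p 2 ^ c₂ p 3 ^ c₃`, `w_mul`, `w_inj`, `mem_V`, `mem_D`;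
* `FF p` : `F`, `mem_FF`;
* `cent_FF` : `C_G(F) ≤ C_G(V)`; **`norm_FF`** : `N_G(F) ≤ N_G(V)`.
-/

set_option autoImplicit false
set_option linter.unusedSectionVars false

namespace Cfsg.Agent.Omega.LFive

open Subgroup Cfsg Cfsg.Agent.Omega.MinPar Cfsg.Agent.Omega.Frame
open Cfsg.Agent.ZN (o2 jj zc zl mem_zc normalizer_le_normalizer_zc)
open Cfsg.Agent.ZN.ChoiceBase (cj cj_mono cj_cj mem_cj cj_le_iff cj_inv_cj cj_cj_inv mem_normalizer_iff_cj
  cj_eq_of_mem_normalizer isPGroup_cj card_cj cj_centralizer)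
open Cfsg.Agent.ZN.ChoiceSit (Syl exists_syl syl_conj o2_le_syl syl_not_dvd)
open Cfsg.Agent.MinSimple.EmptyTI (syl_of_le)
open Cfsg.Agent.Omega.NO3b.EZero (cj_eq_cj_iff)
open Cfsg.Agent.MinSimple.VModule (o2_isPGroup o2_le le_normalizer_o2 le_normalizer_zl)
open Cfsg.Agent.Omega.NTwo (nn aa Std mem_cent cm comm_iff conj_inj)
open Cfsg.Agent.Omega.NO3S.Sym.Exit (Five)
open Cfsg.Agent.Omega.NO3S.Sym.Light (FiveL DD)
open scoped Pointwise

universe u

variable {G : Type u} [Group G]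

/-! ### Coordinates -/

/-- `p i ^ b` -/
def e (p : Fin 5 → G) (i : Fin 5) (b : Bool) : G := cond b (p i) 1

/-- `p 0 ^ c₀ p 1 ^ c₁ p 2 ^ c₂ p 3 ^ c₃` -/
def w (p : Fin 5 → G) (c : Fin 4 → Bool) : G := e p 0 (c 0) * e p 1 (c 1) * e p 2 (c 2) * e p 3 (c 3)

theorem exists_vec (P : (Fin 4 → Bool) → Prop) (h : ∀ a b c d : Bool, P ![a, b, c, d]) : ∀ c, P c := by
  intro c
  have e : c = ![c 0, c 1, c 2, c 3] := by
    funext i
    fin_cases i <;> rfl
  rw [e]
  exact h _ _ _ _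

section std

variable {S P : Subgroup G} {p : Fin 5 → G} (h : Std S P p)
include h

theorem e_comm (i j : Fin 5) (b c : Bool) : e p i b * e p j c = e p j c * e p i b := by
  cases b <;> cases c <;> simp [e, h.comm i j]

theorem e_mul (i : Fin 5) (b c : Bool) : e p i b * e p i c = e p i (xor b c) := by
  cases b <;> cases c <;> simp [e, h.sq i]

theorem w_mul (c d : Fin 4 → Bool) : w p c * w p d = w p (fun i => xor (c i) (d i)) := by
  simp only [w, ← e_mul h]
  have c10 := e_comm h 1 0 (c 1) (d 0)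
  have c20 := e_comm h 2 0 (c 2) (d 0)
  have c30 := e_comm h 3 0 (c 3) (d 0)
  have c21 := e_comm h 2 1 (c 2) (d 1)
  have c31 := e_comm h 3 1 (c 3) (d 1)
  have c32 := e_comm h 3 2 (c 3) (d 2)
  calc e p 0 (c 0) * e p 1 (c 1) * e p 2 (c 2) * e p 3 (c 3) * (e p 0 (d 0) * e p 1 (d 1) * e p 2 (d 2) * e p 3 (d 3))
      = e p 0 (c 0) * e p 1 (c 1) * e p 2 (c 2) * (e p 3 (c 3) * e p 0 (d 0)) * e p 1 (d 1) * e p 2 (d 2) *
        e p 3 (d 3) := by group
    _ = e p 0 (c 0) * e p 1 (c 1) * (e p 2 (c 2) * e p 0 (d 0)) * (e p 3 (c 3) * e p 1 (d 1)) * e p 2 (d 2) *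
        e p 3 (d 3) := by rw [c30]; group
    _ = e p 0 (c 0) * (e p 1 (c 1) * e p 0 (d 0)) * (e p 2 (c 2) * e p 1 (d 1)) * (e p 3 (c 3) * e p 2 (d 2)) *
        e p 3 (d 3) := by rw [c20, c31]; group
    _ = e p 0 (c 0) * e p 0 (d 0) * (e p 1 (c 1) * e p 1 (d 1)) * (e p 2 (c 2) * e p 2 (d 2)) *
        (e p 3 (c 3) * e p 3 (d 3)) := by rw [c10, c21, c32]; group

theorem w_zero : w p (fun _ => false) = 1 := by simp [w, e]

theorem w_sq (c : Fin 4 → Bool) : w p c * w p c = 1 := by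
  rw [w_mul h]
  simp only [Bool.xor_self]
  exact w_zero h

theorem w_inv (c : Fin 4 → Bool) : (w p c)⁻¹ = w p c := inv_eq_of_mul_eq_one_left (w_sq h c)

theorem four_eq : p 0 * p 1 * p 2 * p 3 = p 4 := by
  rw [← h.prod]; group

theorem three_ne : p 0 * p 1 * p 2 ≠ 1 ∧ p 0 * p 1 * p 3 ≠ 1 ∧ p 0 * p 2 * p 3 ≠ 1 ∧ p 1 * p 2 * p 3 ≠ 1 := by
  have c1 : ∀ i j, p i * p j = p j * p i := h.comm
  refine ⟨?_, ?_, ?_, ?_⟩
  · intro e
    have := four_eq h
    rw [e, one_mul] at this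
    exact absurd (h.inj this) (by decide)
  · intro e
    have h1 : p 0 * p 1 * p 2 * p 3 = p 0 * p 1 * p 3 * p 2 := by rw [mul_assoc, c1 2 3, ← mul_assoc]
    rw [four_eq h, e, one_mul] at h1
    exact absurd (h.inj h1) (by decide)
  · intro e
    have h1 : p 0 * p 1 * p 2 * p 3 = p 0 * p 2 * p 3 * p 1 := by
      rw [mul_assoc (p 0) (p 1) (p 2), c1 1 2, mul_assoc _ (p 2 * p 1) (p 3), mul_assoc (p 2), c1 1 3]
      group
    rw [four_eq h, e, one_mul] at h1
    exact absurd (h.inj h1) (by decide)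
  · intro e
    have h1 : p 0 * p 1 * p 2 * p 3 = p 0 * (p 1 * p 2 * p 3) := by group
    rw [four_eq h, e, mul_one] at h1
    exact absurd (h.inj h1) (by decide)

theorem w_ne_one : ∀ c : Fin 4 → Bool, c ≠ (fun _ => false) → w p c ≠ 1 := by
  obtain ⟨h1, h2, h3, h4⟩ := three_ne h
  have h5 : p 0 * p 1 * p 2 * p 3 ≠ 1 := by rw [four_eq h]; exact h.ne 4
  have m01 := h.mul_ne_one (i := 0) (j := 1) (by decide)
  have m02 := h.mul_ne_one (i := 0) (j := 2) (by decide)
  have m03 := h.mul_ne_one (i := 0) (j := 3) (by decide)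
  have m12 := h.mul_ne_one (i := 1) (j := 2) (by decide)
  have m13 := h.mul_ne_one (i := 1) (j := 3) (by decide)
  have m23 := h.mul_ne_one (i := 2) (j := 3) (by decide)
  have n0 := h.ne 0
  have n1 := h.ne 1
  have n2 := h.ne 2
  have n3 := h.ne 3
  refine exists_vec _ fun a b c d => ?_
  cases a <;> cases b <;> cases c <;> cases d
  · intro e
    exact absurd (by funext i; fin_cases i <;> rfl) e
  all_goals
    intro _
    simp only [w, e, Matrix.cons_val_zero, Matrix.cons_val_one, Matrix.cons_val, cond_true, cond_false, one_mul,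
      mul_one]
    assumption

theorem w_inj {c d : Fin 4 → Bool} (hcd : w p c = w p d) : c = d := by
  have h1 : w p (fun i => xor (c i) (d i)) = 1 := by rw [← w_mul h, hcd, w_sq h]
  by_contra hne
  refine w_ne_one h _ ?_ h1
  intro e
  apply hne
  funext i
  have h2 := congrFun e i
  simpa using h2

theorem w_four : w p (fun _ => true) = p 4 := by
  simp only [w, e, cond_true]
  exact four_eq h

theorem p_eq : ∀ i : Fin 5, p i = w p (fun j => decide (i = 4 ∨ i = j.castSucc)) := by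
  intro i
  fin_cases i
  · simp [w, e]
  · simp [w, e]
  · simp [w, e]
  · simp [w, e]
  · have := (w_four h).symm
    simpa using this

/-- conjugation in coordinates -/
theorem conj_w {g : G} {σ : Equiv.Perm (Fin 5)} (hσ : ∀ i, g * p i * g⁻¹ = p (σ i)) {τ : Equiv.Perm (Fin 4)}
    (hτ : ∀ j : Fin 4, σ j.castSucc = (τ j).castSucc) (c : Fin 4 → Bool) :
    g * w p c * g⁻¹ = w p (fun j => c (τ⁻¹ j)) := by
  have he : ∀ (j : Fin 4) (b : Bool), g * e p j.castSucc b * g⁻¹ = e p (τ j).castSucc b := by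
    intro j b
    cases b
    · simp [e]
    · simp only [e, cond_true]
      rw [hσ, hτ]
  have hp : ∀ c : Fin 4 → Bool, w p c = w p (fun j => c 0 && decide (j = 0)) * w p (fun j => c 1 && decide (j = 1)) *
      w p (fun j => c 2 && decide (j = 2)) * w p (fun j => c 3 && decide (j = 3)) := by
    intro c
    rw [w_mul h, w_mul h, w_mul h]
    congr 1
    funext j
    fin_cases j <;> simp
  have hs : ∀ (i : Fin 4) (b : Bool), w p (fun j => b && decide (j = i)) = e p i.castSucc b := by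
    intro i b
    fin_cases i <;> cases b <;> simp [w, e]
  rw [hp c, hs, hs, hs, hs, cm, cm, cm, he, he, he, he, ← hs, ← hs, ← hs, ← hs, w_mul h, w_mul h, w_mul h]
  congr 1
  funext j
  have key : ∀ (τ : Equiv.Perm (Fin 4)) (c : Fin 4 → Bool) (j : Fin 4),
      xor (xor (xor (c 0 && decide (j = τ 0)) (c 1 && decide (j = τ 1))) (c 2 && decide (j = τ 2)))
        (c 3 && decide (j = τ 3)) = c (τ⁻¹ j) := by
    intro τ c j
    obtain ⟨k, rfl⟩ := τ.surjective j
    have e1 : τ⁻¹ (τ k) = k := τ.symm_apply_apply k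
    rw [e1]
    have h1 : ∀ i, decide (τ k = τ i) = decide (k = i) := fun i => decide_eq_decide.2 τ.injective.eq_iff
    rw [h1, h1, h1, h1]
    fin_cases k <;> simp
  exact key τ c j

/-! ### `F` -/

/-- parity -/
def par (c : Fin 4 → Bool) : Bool := xor (xor (c 0) (c 1)) (xor (c 2) (c 3))

omit h in
theorem par_xor (c d : Fin 4 → Bool) : par (fun i => xor (c i) (d i)) = xor (par c) (par d) := by
  simp only [par]
  cases c 0 <;> cases c 1 <;> cases c 2 <;> cases c 3 <;> cases d 0 <;> cases d 1 <;> cases d 2 <;> cases d 3 <;> rfl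

/-- `F = Even{0, 1, 2, 3}` -/
def FF : Subgroup G where
  carrier := {g | ∃ c, par c = false ∧ g = w p c}
  one_mem' := ⟨fun _ => false, rfl, (w_zero h).symm⟩
  mul_mem' := by
    rintro _ _ ⟨c, hc, rfl⟩ ⟨d, hd, rfl⟩
    exact ⟨_, by rw [par_xor, hc, hd]; rfl, w_mul h c d⟩
  inv_mem' := by
    rintro _ ⟨c, hc, rfl⟩
    exact ⟨c, hc, w_inv h c⟩

theorem mem_FF {g : G} : g ∈ FF h ↔ ∃ c, par c = false ∧ g = w p c := Iff.rfl

theorem w_mem_FF {c : Fin 4 → Bool} : w p c ∈ FF h ↔ par c = false := by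
  rw [mem_FF]
  constructor
  · rintro ⟨d, hd, e⟩
    rw [w_inj h e]
    exact hd
  · intro hc
    exact ⟨c, hc, rfl⟩

end std

section five

variable [Finite G] {S : Sylow 2 G} {P : Subgroup G} {p : Fin 5 → G} (h : Five S P p)
include h

theorem mem_V {g : G} : g ∈ zl (S : Subgroup G) P ↔ ∃ c, g = w p c := by
  constructor
  · intro hg
    rw [h.gen] at hg
    refine closure_induction (p := fun g _ => ∃ c, g = w p c) ?_ ⟨fun _ => false, (w_zero h.std).symm⟩ ?_ ?_ hg
    · rintro _ ⟨i, rfl⟩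
      exact ⟨_, p_eq h.std i⟩
    · rintro _ _ - - ⟨c, rfl⟩ ⟨d, rfl⟩
      exact ⟨_, w_mul h.std c d⟩
    · rintro _ - ⟨c, rfl⟩
      exact ⟨c, w_inv h.std c⟩
  · rintro ⟨c, rfl⟩
    have h1 : ∀ (i : Fin 5) (b : Bool), e p i b ∈ zl (S : Subgroup G) P := by
      intro i b
      cases b
      · exact one_mem _
      · exact h.p_mem i
    exact mul_mem (mul_mem (mul_mem (h1 0 _) (h1 1 _)) (h1 2 _)) (h1 3 _)

theorem FF_le : FF h.std ≤ zl (S : Subgroup G) P := by
  rintro _ ⟨c, -, rfl⟩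
  exact (mem_V h).2 ⟨c, rfl⟩

/-- a permutation of the letters which centralises `F` is trivial -/
theorem perm_F {g : G} {σ : Equiv.Perm (Fin 5)} (hσ : ∀ i, g * p i * g⁻¹ = p (σ i))
    (hg : ∀ x ∈ FF h.std, g * x = x * g) : σ = 1 := by
  have h4 : σ 4 = 4 := by
    apply h.std.inj
    rw [← hσ]
    have h1 := hg (p 4) (by rw [← w_four h.std]; exact ⟨_, rfl, rfl⟩)
    rw [h1]
    group
  have h2 : ∀ i j : Fin 5, i ≠ 4 → j ≠ 4 → i ≠ j → (σ i = i ∧ σ j = j) ∨ (σ i = j ∧ σ j = i) := by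
    intro i j hi hj hij
    have h1 : p i * p j ∈ FF h.std := by
      rw [p_eq h.std i, p_eq h.std j, w_mul h.std, w_mem_FF h.std]
      revert i j
      decide
    have h3 : p (σ i) * p (σ j) = p i * p j := by
      rw [← hσ, ← hσ, ← cm, hg _ h1]
      group
    exact h.std.pair_inj (fun e => hij (σ.injective e)) hij h3
  have key : ∀ σ : Equiv.Perm (Fin 5), σ 4 = 4 → (∀ i j : Fin 5, i ≠ 4 → j ≠ 4 → i ≠ j →
      (σ i = i ∧ σ j = j) ∨ (σ i = j ∧ σ j = i)) → σ = 1 := by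
    decide +kernel
  exact key σ h4 h2

theorem P_act {g : G} (hg : g ∈ P) : ∃ σ : Equiv.Perm (Fin 5), ∀ i, g * p i * g⁻¹ = p (σ i) := h.std.perm g hg

/-- an element of `P` which centralises `F` centralises `V` -/
theorem cent_of_P {g : G} (hg : g ∈ P) (hF : g ∈ centralizer (FF h.std : Set G)) :
    g ∈ centralizer (zl (S : Subgroup G) P : Set G) := by
  obtain ⟨σ, hσ⟩ := P_act h hg
  have h1 : σ = 1 := perm_F h hσ fun x hx => (mem_centralizer_iff.1 hF x hx).symm
  rw [h.gen, centralizer_closure]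
  refine mem_centralizer_iff.2 ?_
  rintro _ ⟨i, rfl⟩
  have h2 := hσ i
  rw [h1, Equiv.Perm.one_apply] at h2
  exact (mul_inv_eq_iff_eq_mul.1 h2).symm

/-- `S` normalises `F` -/
theorem S_FF : (S : Subgroup G) ≤ normalizer (FF h.std : Set G) := by
  have key : ∀ s ∈ (S : Subgroup G), ∀ x ∈ FF h.std, s * x * s⁻¹ ∈ FF h.std := by
    rintro s hs _ ⟨c, hc, rfl⟩
    obtain ⟨σ, hσ⟩ := P_act h (h.std.le hs)
    have h4 : σ 4 = 4 := by
      apply h.std.inj
      rw [← hσ, h.std.fix s hs]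
    obtain ⟨τ, hτ⟩ : ∃ τ : Equiv.Perm (Fin 4), ∀ j : Fin 4, σ j.castSucc = (τ j).castSucc := by
      have : ∀ σ : Equiv.Perm (Fin 5), σ 4 = 4 → ∃ τ : Equiv.Perm (Fin 4), ∀ j : Fin 4,
          σ j.castSucc = (τ j).castSucc := by decide +kernel
      exact this σ h4
    rw [conj_w h.std hσ hτ, w_mem_FF h.std]
    have : ∀ (τ : Equiv.Perm (Fin 4)) (c : Fin 4 → Bool), par c = false → par (fun j => c (τ⁻¹ j)) = false := by
      decide +kernel
    exact this τ c hc
  intro s hs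
  rw [mem_normalizer_iff]
  refine fun x => ⟨key s hs x, fun hx => ?_⟩
  have h1 := key s⁻¹ (inv_mem hs) _ hx
  have e1 : s⁻¹ * (s * x * s⁻¹) * s⁻¹⁻¹ = x := by group
  rwa [e1] at h1

end five

/-! ### Frattini -/

theorem syl_inf [Finite G] {S : Sylow 2 G} {K : Subgroup G} (hS : (S : Subgroup G) ≤ normalizer (K : Set G)) :
    Syl ((S : Subgroup G) ⊓ K) K := by
  refine ⟨inf_le_right, S.isPGroup'.to_le inf_le_left, fun Q hQ hp hle => ?_⟩
  have hQL : Q ≤ normalizer (K : Set G) := hQ.trans Subgroup.le_normalizer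
  obtain ⟨T, hT, hQT⟩ := exists_syl hp hQL
  obtain ⟨x, hx, hxT⟩ := syl_conj hT (syl_of_le hS)
  have h1 : cj x Q ≤ (S : Subgroup G) ⊓ K := by
    refine le_inf ?_ ?_
    · rw [← hxT]; exact cj_mono x hQT
    · have h2 := cj_mono x hQ
      rwa [mem_normalizer_iff_cj.1 hx] at h2
  have h2 := card_le_of_le h1
  rw [card_cj] at h2
  exact (eq_of_le_of_card_ge hle h2).symm

theorem frattini [Finite G] {S : Sylow 2 G} {K : Subgroup G} (hS : (S : Subgroup G) ≤ normalizer (K : Set G)) {n : G}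
    (hn : n ∈ normalizer (K : Set G)) : ∃ c ∈ K,
    c⁻¹ * n ∈ normalizer (((S : Subgroup G) ⊓ K : Subgroup G) : Set G) := by
  have h1 : Syl (cj n ((S : Subgroup G) ⊓ K)) K := by
    have hC : cj n K = K := mem_normalizer_iff_cj.1 hn
    refine ⟨?_, isPGroup_cj _ (S.isPGroup'.to_le inf_le_left), fun Q hQ hp hle => ?_⟩
    · exact (cj_mono n (syl_inf hS).1).trans hC.le
    · have h2 := (syl_inf hS).2.2 (cj n⁻¹ Q) (by
        rw [cj_le_iff, inv_inv, hC]; exact hQ) (isPGroup_cj _ hp) (by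
        have h3 := cj_mono n⁻¹ hle
        rwa [cj_inv_cj] at h3)
      rw [← h2, cj_cj_inv]
  obtain ⟨c, hc, hcn⟩ := syl_conj (syl_inf hS) h1
  exact ⟨c, hc, cj_eq_cj_iff.1 hcn.symm⟩

theorem norm_cent_of {A : Subgroup G} {g : G} (hg : g ∈ normalizer (A : Set G)) :
    g ∈ normalizer (centralizer (A : Set G) : Set G) := by
  rw [mem_normalizer_iff_cj, cj_centralizer, cj_eq_of_mem_normalizer hg]

section zero

variable [Finite G] {S : Sylow 2 G} {P : Subgroup G} {p : Fin 5 → G} (h : FiveL S P p)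
include h

theorem cS_eq' : (S : Subgroup G) ⊓ centralizer (zl (S : Subgroup G) P : Set G) = o2 P :=
  h.star.inf_centralizer S h.ctx.char2

theorem Q_le : o2 P ≤ centralizer (zl (S : Subgroup G) P : Set G) := by
  rw [← cS_eq' h]; exact inf_le_right

theorem zF : p 4 ∈ FF h.std := by rw [← w_four h.std]; exact ⟨_, rfl, rfl⟩

theorem S_cz : (S : Subgroup G) ≤ centralizer ({p 4} : Set G) := fun s hs => mem_cent.2 (h.std.fix s hs)

theorem U_le_S : DD (zl (S : Subgroup G) P) (p 4) ≤ (S : Subgroup G) := by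
  have h2 : IsPGroup 2 (DD (zl (S : Subgroup G) P) (p 4)) := by
    rintro ⟨x, hx⟩
    exact ⟨1, Subtype.ext (by simpa using NO3S.MFive.U_sq h x hx)⟩
  have h1 : DD (zl (S : Subgroup G) P) (p 4) ≤ centralizer ({p 4} : Set G) := by
    intro x hx
    exact mem_centralizer_singleton_iff.2
      (mem_centralizer_iff.1 (NO3S.MFive.U_comm h hx) _ (NO3S.Sym.Light.le_DD (h.p_mem 4))).symm
  have h3 : DD (zl (S : Subgroup G) P) (p 4) ≤ o2 (centralizer ({p 4} : Set G)) :=
    Cfsg.Agent.ZN.ChoiceSit.le_o2 h2 h1 NO3S.Sym.Light.cent_le_normalizer_DD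
  exact h3.trans (o2_le_syl (syl_of_le (S_cz h)))

/-- **`C_G(F) ≤ C_G(V)`** -/
theorem cent_FF (hz : zc (o2 P) = zl (S : Subgroup G) P) :
    centralizer (FF h.std : Set G) ≤ centralizer (zl (S : Subgroup G) P : Set G) := by
  set V := zl (S : Subgroup G) P with hV
  have hCF : centralizer (V : Set G) ≤ centralizer (FF h.std : Set G) := centralizer_le (FF_le h.toFive)
  have hFz : centralizer (FF h.std : Set G) ≤ centralizer ({p 4} : Set G) := by
    refine centralizer_le ?_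
    rintro x rfl
    exact zF h
  have hSV : (S : Subgroup G) ≤ normalizer (V : Set G) := h.std.le.trans (le_normalizer_zl _ _)
  have hSF : (S : Subgroup G) ≤ normalizer (centralizer (FF h.std : Set G) : Set G) := fun s hs =>
    norm_cent_of (S_FF h.toFive hs)
  have hodd : ¬ 2 ∣ (centralizer (V : Set G)).relIndex (centralizer (FF h.std : Set G)) := by
    have h1 : (S : Subgroup G) ⊓ centralizer (FF h.std : Set G) ≤ centralizer (V : Set G) := fun s hs =>
      cent_of_P h.toFive (h.std.le hs.1) hs.2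
    intro h2
    refine syl_not_dvd (syl_inf hSF) (h2.trans ?_)
    have h3 := relIndex_mul_relIndex ((S : Subgroup G) ⊓ centralizer (FF h.std : Set G)) (centralizer (V : Set G))
      (centralizer (FF h.std : Set G)) h1 hCF
    exact ⟨_, by rw [← h3, mul_comm]⟩
  have key := NormAbs.norm_grp (U := DD V (p 4)) (V := V) (H := centralizer (FF h.std : Set G))
    (C := centralizer (V : Set G)) (S := (S : Subgroup G))
    (fun x hx => by rw [← pow_two]; exact NO3S.MFive.U_sq h x hx)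
    (fun x hx y hy => (mem_centralizer_iff.1 (NO3S.MFive.U_comm h hx) y hy).symm)
    (hFz.trans NO3S.Sym.Light.cent_le_normalizer_DD) ((S_cz h).trans NO3S.Sym.Light.cent_le_normalizer_DD) hodd hSF
    (fun s hs => norm_cent_of (hSV hs)) S.isPGroup' NO3S.Sym.Light.le_DD
    (fun c hc v hv => (mem_centralizer_iff.1 hc v hv).symm) hSV ?_ ?_
  · intro g hg
    refine mem_centralizer_iff.2 fun v hv => ?_
    exact (key v hv g hg).symm
  · intro u hu h1
    have h2 : u ∈ o2 P := by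
      rw [← cS_eq' h]
      refine ⟨U_le_S h hu, ?_⟩
      exact centralizer_le NO3S.Sym.Light.le_DD (NO3S.MFive.U_comm h hu)
    change u ∈ V
    rw [← hz, mem_zc]
    refine ⟨h2, fun y hy => ?_, NO3S.MFive.U_sq h u hu⟩
    exact h1 y (hCF (Q_le h hy))
  · intro v hv h1 g hg
    have h2 : v ∈ zc (S : Subgroup G) := by
      rw [mem_zc]
      exact ⟨h.toFive.V_le hv, fun y hy => h1 y hy, by rw [pow_two]; exact h.toFive.V_sq hv⟩
    rcases h.std.zc4 v h2 with rfl | rfl
    · rw [mul_one, one_mul]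
    · exact mem_centralizer_singleton_iff.1 (hFz hg)

/-- **`N_G(F) ≤ N_G(V)`** -/
theorem norm_FF (hz : zc (o2 P) = zl (S : Subgroup G) P) :
    normalizer (FF h.std : Set G) ≤ ll S P := by
  intro g hg
  have hCF : centralizer (FF h.std : Set G) = centralizer (zl (S : Subgroup G) P : Set G) :=
    le_antisymm (cent_FF h hz) (centralizer_le (FF_le h.toFive))
  have h1 := norm_cent_of hg
  rw [hCF] at h1
  have hSV : (S : Subgroup G) ≤ normalizer (zl (S : Subgroup G) P : Set G) := h.std.le.trans (le_normalizer_zl _ _)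
  obtain ⟨c, hc, hc2⟩ := frattini (S := S) (fun s hs => norm_cent_of (hSV hs)) h1
  rw [cS_eq' h] at hc2
  have h2 : c⁻¹ * g ∈ ll S P := by
    have h3 := normalizer_le_normalizer_zc _ hc2
    rwa [hz] at h3
  have h4 := mul_mem (centralizer_le_normalizer _ hc : c ∈ ll S P) h2
  rwa [mul_inv_cancel_left] at h4

end zero

end Cfsg.Agent.Omega.LFive
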